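import Cfsg.Agent.Omega.F4Leaf.OT.Tone
import Cfsg.Agent.Omega.F4Leaf.NC

/-!
# The hypotheses of `NC.O1` give the configuration `OT.Tone.Cfg`

* `cfg_of` : `Dat` + `Z.Base` + `V₀ ≠ 1` ⟹ `Tone.Cfg S M k V₀`;
* `o1_of` : `NC.O1` from the contradiction in `Tone.Cfg` (plus the other data of `O1`).
-/

set_option autoImplicit false
set_option linter.unusedSectionVars false

namespace Cfsg.Agent.Omega.F4Leaf.OT.OfO1

open Subgroup Cfsg Cfsg.Agent.ZN Cfsg.Agent.ZN.ChoiceBase Cfsg.Agent.Omega.MinPar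
open Cfsg.Agent.Omega.Frame Cfsg.Agent.Omega.FFThm
open Cfsg.Agent.Omega.FrameLE (AllIn)
open Cfsg.Agent.Omega.FrameFF (cv)
open Cfsg.Agent.Omega.FrameMulti (AllTyped NoWr)
open Cfsg.Agent.Omega.S5.Mod Cfsg.Agent.Omega.S5.TT Cfsg.Agent.Omega.S5.Pair Cfsg.Agent.Omega.S5.Main
open Cfsg.Agent.Omega.F4Leaf.Def Cfsg.Agent.Omega.F4Leaf.Main Cfsg.Agent.Omega.TTn

universe u

/-- the configuration of `OT/Tone.lean` -/
theorem cfg_of {G : Type u} [Group G] [Finite G] {S : Sylow 2 G} {A L : Subgroup G} {M : FiveMod A L} {k : G}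
    {V₀ Om : Subgroup G} (b : Z.Base S M M k) (t : Z.OmT.Dat S M V₀ Om)
    (hz : zc ((S : Subgroup G) ⊓ centralizer ({M.e nn} : Set G)) ≤ Om) (hne : V₀ ≠ ⊥) :
    Tone.Cfg S M k V₀ where
  b := b
  V0L g hg v hv := t.V0L g hg v hv
  V02 v hv := t.Om2 v (t.V0Om hv)
  V0S := t.V0Om.trans t.OmS
  zT := Z.Nc.zT t hz
  ne := hne

/-- **(O1) from the contradiction in the configuration** -/
theorem o1_of (h : ∀ (G : Type u) [Group G] [Finite G], Ctx G → ∀ (S : Sylow 2 G),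
    ∀ (A L : Subgroup G) (M : FiveMod A L) (k : G) (V₀ : Subgroup G),
      IsParS (S : Subgroup G) L → o2 L ≤ centralizer (A : Set G) → Tone.Cfg S M k V₀ → False) : NC.O1.{u} := by
  intro G _ _ hG S hF hI hT hW P A ε M k hP hs b t hz hne hQ hn hx
  exact h G hG S A P M k (cv (S : Subgroup G) P) hP (Z.Member.o2_le_cA hG.char2 hs hP) (cfg_of b t hz hne)

/-- **F4NC from the contradiction in the configuration** -/
theorem f4nc_of (h : ∀ (G : Type u) [Group G] [Finite G], Ctx G → ∀ (S : Sylow 2 G),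
    ∀ (A L : Subgroup G) (M : FiveMod A L) (k : G) (V₀ : Subgroup G),
      IsParS (S : Subgroup G) L → o2 L ≤ centralizer (A : Set G) → Tone.Cfg S M k V₀ → False) : F4NC.{u} :=
  NC.f4nc_of (o1_of h)

end Cfsg.Agent.Omega.F4Leaf.OT.OfO1
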