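import Cfsg.Agent.Omega.F4Leaf.OT.Line
import Cfsg.Agent.Omega.HT.Sig

/-!
# LeafF4 (O1), #18759: the `Σ`-step

* `Sg.exists_move` : `X` moves `n` to `e {0, 4}`;
* `Sg.cases` : `z ∈ Ω₁(Z(T)) ∩ C(X)` is `v` or `v a`, `v ∈ V₀`;
* `Sg.sig` : if `Sig z`, then `z = v a`.
-/

set_option autoImplicit false
set_option linter.unusedSectionVars false

namespace Cfsg.Agent.Omega.F4Leaf.OT.Sg

open Subgroup Cfsg
open Cfsg.Agent.ZN hiding mem_zc zc_le zc_comm zc_sq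
open Cfsg.Agent.ZN.ChoiceBase hiding mem_zc
open Cfsg.Agent.Omega.S5.Mod Cfsg.Agent.Omega.S5.TT Cfsg.Agent.Omega.TTn
open Cfsg.Agent.Omega.S5.TT.Pos (na ns as sn n_ne s_ne a_ne n_ne_a n_ne_s a_ne_s e_sq' mem_C)
open Cfsg.Agent.MinSimple.VModule (o2_isPGroup le_o2 o2_le le_normalizer_o2 o2_le_of_sylow
  normalizer_le_normalizer_zc le_centralizer_zc mem_zc zc_le zc_comm zc_sq)
open Cfsg.Agent.Omega.F4Leaf.OT.Tone (TS Cfg)
open Cfsg.Agent.Omega.F4Leaf.OT.Line (lv R LV bt mem_R normR QQ_zero gen_mem lv_mem mem_LV)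
open Cfsg.Agent.Omega.BTwo (BT XX WW QQ)
open Cfsg.Agent.Omega.HTwo.Hat (ZQ)

universe u

variable {G : Type u} [Group G] [Finite G] {S : Sylow 2 G} {A L : Subgroup G} {M : FiveMod A L} {k : G}
  {V₀ : Subgroup G}

theorem lv_zero : lv 0 = nn := rfl

/-- `X` moves `n` to `e {0, 4}` -/
theorem exists_move (c : Cfg S M k V₀) : ∃ x ∈ XX (LV M) (R M), x * M.e nn * x⁻¹ = M.e (lv 1) := by
  obtain ⟨x, hx, e⟩ := (bt c.b).trans_X_one 0 1
  refine ⟨x, hx, ?_⟩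
  have h1 : x * M.e nn * x⁻¹ ∈ R M 1 := by
    rw [← e]
    exact Cfsg.Agent.Omega.BTwo.conj_mem_cj (gen_mem M 0)
  rcases (mem_R M).1 h1 with h2 | h2
  · exfalso
    have h3 : M.e nn = 1 := by
      have h4 : M.e nn = x⁻¹ * (x * M.e nn * x⁻¹) * x := by group
      rw [h4, h2]; group
    exact n_ne M h3
  · exact h2

section vec

theorem l_one : lv 1 = ![1, 0, 0, 0, 1] := rfl

/-- `{0, 4}` and `n` are conjugate under `(1 4)` -/
theorem nn_move : nn ∘ (Equiv.swap 1 4 : Equiv.Perm (Fin 5)).symm = lv 1 := by decide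

theorem l_add : lv 1 + nn = (lv 2) := by decide

theorem l_two : (lv 2) ∘ (Equiv.swap 0 4 : Equiv.Perm (Fin 5)).symm = nn := by decide

theorem l_ss : ((lv 1) + ss) ∘ (Equiv.swap 0 4 : Equiv.Perm (Fin 5)).symm = ss := by decide

theorem nn_fix : nn ∘ (Equiv.swap 2 4 : Equiv.Perm (Fin 5)).symm = nn := by decide

/-- the vector `{2, 4}` -/
def tf : Vec := ![0, 0, 1, 0, 1]

theorem tf_eq : tf 0 = tf 1 := rfl

theorem l_move : ∀ i : Fin 3, lv i ∘ (Equiv.swap 2 4 : Equiv.Perm (Fin 5)).symm = lv i ∨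
    lv i ∘ (Equiv.swap 2 4 : Equiv.Perm (Fin 5)).symm = lv i + tf := by decide

theorem l_move_one : lv 1 ∘ (Equiv.swap 2 4 : Equiv.Perm (Fin 5)).symm = lv 1 + tf := by decide

end vec

/-- an element of `V₀ L`-conjugates -/
theorem conj_V0 (c : Cfg S M k V₀) {g v : G} {x : Vec} {p : Equiv.Perm (Fin 5)} (hg : g ∈ L) (hi : M.Ind g p)
    (hv : v ∈ V₀) : g * (v * M.e x) * g⁻¹ = v * M.e (x ∘ p.symm) := by
  have h1 := c.V0L g hg v hv
  calc g * (v * M.e x) * g⁻¹ = (g * v) * M.e x * g⁻¹ := by group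
    _ = v * (g * M.e x * g⁻¹) := by rw [h1]; group
    _ = _ := by rw [hi]

/-- no element `d` with `T` Sylow in `C(d)` is conjugate to an element centralised by `S` -/
theorem false_conj (c : Cfg S M k V₀) {d g : G} (hd : d ∈ zc (TS S M)) (hdS : d ∉ zc (S : Subgroup G))
    (h : ∀ s ∈ (S : Subgroup G), s * (g * d * g⁻¹) = g * d * g⁻¹ * s) : False := by
  have h1 := c.odd_cen hd hdS
  have hT : TS S M ≤ centralizer ({d} : Set G) := fun t ht => mem_C.2 ((mem_zc.1 hd).2.1 t ht)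
  have hS : ChoiceBase.cj g⁻¹ (S : Subgroup G) ≤ centralizer ({d} : Set G) := by
    rintro _ ⟨s, hs, rfl⟩
    refine mem_C.2 ?_
    have h2 := h s hs
    show g⁻¹ * s * g⁻¹⁻¹ * d = d * (g⁻¹ * s * g⁻¹⁻¹)
    calc g⁻¹ * s * g⁻¹⁻¹ * d = g⁻¹ * (s * (g * d * g⁻¹)) * g := by group
      _ = g⁻¹ * (g * d * g⁻¹ * s) * g := by rw [h2]
      _ = d * (g⁻¹ * s * g⁻¹⁻¹) := by group
  have h3 := HT.card_dvd_card hT h1 (S.isPGroup'.map _) hS
  have h4 := Nat.le_of_dvd Nat.card_pos h3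
  have h5 : Nat.card (ChoiceBase.cj g⁻¹ (S : Subgroup G) : Subgroup G) = Nat.card (S : Subgroup G) := card_cj _ _
  have h6 := c.b.card_S
  have h7 : 0 < Nat.card (TS S M) := Nat.card_pos
  change Nat.card (ChoiceBase.cj g⁻¹ (S : Subgroup G) : Subgroup G) ≤ _ at h4
  rw [h5] at h4
  have h8 : Nat.card (S : Subgroup G) = 2 * Nat.card (TS S M) := h6
  omega

/-- `z ∈ Ω₁(Z(T)) ∩ C(X)` is `v` or `v a` -/
theorem cases (c : Cfg S M k V₀) {z : G} (hz : z ∈ zc (TS S M))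
    (hzX : z ∈ centralizer (XX (LV M) (R M) : Set G)) : ∃ v ∈ V₀, z = v ∨ z = v * M.e aa := by
  obtain ⟨x, hx, hxn⟩ := exists_move c
  have hxz : x * z * x⁻¹ = z := by
    rw [mem_centralizer_iff.1 hzX x hx, mul_inv_cancel_right]
  obtain ⟨v, hv, h1 | h1 | h1 | h1⟩ := c.zT z hz
  · exact ⟨v, hv, Or.inl h1⟩
  · exfalso
    -- `v ∼ v e(1,4) ∼ v n`
    obtain ⟨g, hgL, hg⟩ := M.exists_lift (Equiv.swap 0 4)
    have hvn : v * M.e nn * M.e nn = v := by rw [mul_assoc, M.e_sq, mul_one]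
    have h2 : x * v * x⁻¹ = v * M.e (lv 2) := by
      calc x * v * x⁻¹ = (x * (v * M.e nn) * x⁻¹) * (x * M.e nn * x⁻¹) := by
            conv_lhs => rw [← hvn]
            group
        _ = v * M.e nn * M.e (lv 1) := by rw [← h1, hxz, hxn]
        _ = v * M.e (lv 2) := by rw [mul_assoc, ← M.e_add, add_comm, l_add]
    have h3 : (g * x) * v * (g * x)⁻¹ = v * M.e nn := by
      calc (g * x) * v * (g * x)⁻¹ = g * (x * v * x⁻¹) * g⁻¹ := by group
        _ = v * M.e ((lv 2) ∘ (Equiv.swap 0 4 : Equiv.Perm (Fin 5)).symm) := by rw [h2, conj_V0 c hgL hg hv]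
        _ = _ := by rw [l_two]
    refine false_conj c (g := (g * x)⁻¹) (mul_mem (c.V0_zcT hv) c.n_zcT) (c.not_zcS_n hv) fun s hs => ?_
    have h4 : (g * x)⁻¹ * (v * M.e nn) * (g * x)⁻¹⁻¹ = v := by rw [← h3]; group
    rw [h4]
    exact c.V0L s (c.S_le hs) v hv
  · exact ⟨v, hv, Or.inr h1⟩
  · exfalso
    -- `v a ∼ v e(0) ∼ v s`
    obtain ⟨g, hgL, hg⟩ := M.exists_lift (Equiv.swap 0 4)
    have hva : v * M.e aa = v * M.e ss * M.e nn := by rw [mul_assoc, sn]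
    have h2 : x * (v * M.e aa) * x⁻¹ = v * M.e (lv 1 + ss) := by
      calc x * (v * M.e aa) * x⁻¹ = (x * (v * M.e ss) * x⁻¹) * (x * M.e nn * x⁻¹) := by
            rw [hva]; group
        _ = v * M.e ss * M.e (lv 1) := by rw [← h1, hxz, hxn]
        _ = v * M.e (lv 1 + ss) := by rw [mul_assoc, ← M.e_add, add_comm]
    have h3 : (g * x) * (v * M.e aa) * (g * x)⁻¹ = v * M.e ss := by
      calc (g * x) * (v * M.e aa) * (g * x)⁻¹ = g * (x * (v * M.e aa) * x⁻¹) * g⁻¹ := by group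
        _ = v * M.e ((lv 1 + ss) ∘ (Equiv.swap 0 4 : Equiv.Perm (Fin 5)).symm) := by
            rw [h2, conj_V0 c hgL hg hv]
        _ = _ := by rw [l_ss]
    refine false_conj c (g := g * x) (mul_mem (c.V0_zcT hv) c.a_zcT) (c.not_zcS_a hv) fun s hs => ?_
    rw [h3]
    exact c.vs_S hv hs

theorem e_mem_ZQ (c : Cfg S M k V₀) (h1 : (1 : G) ∈ V₀) {x : Vec} (hx : x 0 = x 1) : M.e x ∈ ZQ (R M) 0 := by
  unfold ZQ
  rw [QQ_zero]
  have h2 := c.comm_n h1 hx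
  rw [one_mul] at h2
  exact ⟨h2.1, mem_centralizer_iff.2 h2.2⟩

/-- **the `Σ`-step** -/
theorem sig (c : Cfg S M k V₀) {z : G} (hz : z ∈ zc (TS S M))
    (hzX : z ∈ centralizer (XX (LV M) (R M) : Set G)) (hs : HT.Sig (LV M) (R M) 0 z) :
    ∃ v ∈ V₀, z = v * M.e aa := by
  obtain ⟨v, hv, h1 | h1⟩ := cases c hz hzX
  · exfalso
    obtain ⟨g, hgL, hg⟩ := M.exists_lift (Equiv.swap 2 4)
    have hgn : g * M.e nn = M.e nn * g := (FiveMod.Ind.commute_iff hg _).2 (Or.inl nn_fix)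
    have hgN : g ∈ normalizer (R M 0 : Set G) := by
      rw [normR, lv_zero]; exact mem_C.2 hgn
    have htf : M.e tf ∈ ZQ (R M) 0 := e_mem_ZQ c (one_mem _) tf_eq
    have hmem : ∀ i, M.e (lv i) ∈ LV M := lv_mem M
    have h2 := hs g hgN (by
      rintro w (rfl | ⟨i, rfl⟩)
      · rw [mul_one, mul_inv_cancel]; exact one_mem _
      · rw [hg]
        rcases l_move i with h | h
        · rw [h]; exact mem_sup_left (hmem i)
        · rw [h, M.e_add]
          exact mul_mem (mem_sup_left (hmem i)) (mem_sup_right htf)) (M.e (lv 1)) (hmem 1) (by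
      intro h
      rcases (mem_R M).1 h with h | h
      · exact absurd ((M.ker _).1 h) (by decide)
      · exact absurd (M.e_eq_iff.1 h) (by decide))
    have hgz : g * v = v * g := c.V0L g hgL v hv
    have hvw : M.e (lv 1) * v = v * M.e (lv 1) := c.V0L _ (c.A_le_L hv (M.e_mem _)) v hv
    have e1 : (M.e (lv 1) * z)⁻¹ * g * (M.e (lv 1) * z) * g⁻¹ = M.e tf := by
      rw [h1, hvw]
      calc (v * M.e (lv 1))⁻¹ * g * (v * M.e (lv 1)) * g⁻¹
          = (M.e (lv 1))⁻¹ * v⁻¹ * (g * v) * M.e (lv 1) * g⁻¹ := by group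
        _ = (M.e (lv 1))⁻¹ * (g * M.e (lv 1) * g⁻¹) := by rw [hgz]; group
        _ = M.e tf := by rw [hg, l_move_one, M.e_add, inv_mul_cancel_left]
    rw [e1] at h2
    rcases (mem_R M).1 h2 with h | h
    · exact absurd ((M.ker _).1 h) (by decide)
    · exact absurd (M.e_eq_iff.1 h) (by decide)
  · exact ⟨v, hv, h1⟩

end Cfsg.Agent.Omega.F4Leaf.OT.Sg
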