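import Cfsg.Agent.Omega.F4Leaf.OT.Tone
import Cfsg.Agent.Omega.TTn.BOne

/-!
# LeafF4 (O1), #18759 (2), (3): `⟨A ^ C_G(e)⟩` for `e ∈ Ω₁(Z(T))`

* `Cfg.A_le` : THEOREM E+ : `A ≤ O₂(C_G(v s))` for `v ∈ V₀` (`V₀ ≠ 1`);
* `Cfg.comm_s` : `⟨A ^ C_G(v s)⟩` is abelian;
* `Cfg.comm_V0` : `A ≤ Z(O₂(C_G(v)))` for `1 ≠ v ∈ V₀`;
* `Cfg.comm_n`, `Cfg.comm_a` : `e x ∈ Z(O₂(C_G(v n)))` if `x 0 = x 1`, `e x ∈ Z(O₂(C_G(v a)))` if `x 2 = x 3`.
-/

set_option autoImplicit false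
set_option linter.unusedSectionVars false

namespace Cfsg.Agent.Omega.F4Leaf.OT.Tone

open Subgroup Cfsg Cfsg.Agent.ZN
open Cfsg.Agent.ZN.ChoiceBase hiding mem_zc
open Cfsg.Agent.Omega.S5.Mod Cfsg.Agent.Omega.S5.TT Cfsg.Agent.Omega.TTn
open Cfsg.Agent.Omega.S5.TT.Pos (na ns as sn n_ne s_ne a_ne n_ne_a n_ne_s a_ne_s e_sq' mem_C)
open Cfsg.Agent.MinSimple.VModule (o2_isPGroup le_o2 o2_le le_normalizer_o2 o2_le_of_sylow
  normalizer_le_normalizer_zc le_centralizer_zc mem_zc zc_le zc_comm zc_sq)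

universe u

/-! ### Computations -/

namespace EPlus

theorem pick : ∀ p : Equiv.Perm (Fin 5), V4p p → p ≠ 1 → ∃ i : Fin 5, i ≠ 0 ∧ i ≠ 4 ∧
    ((Pi.single 0 1 : Vec) ∘ p.symm + Pi.single 0 1) ∘ (Equiv.swap 1 i : Equiv.Perm (Fin 5)).symm = nn := by
  intro p hp h1
  rcases hp with rfl | rfl | rfl | rfl
  · exact absurd rfl h1
  · exact ⟨1, by decide, by decide, by decide⟩
  · exact ⟨2, by decide, by decide, by decide⟩
  · exact ⟨3, by decide, by decide, by decide⟩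

theorem swap_ss : ∀ i : Fin 5, i ≠ 4 → ss ∘ (Equiv.swap 1 i : Equiv.Perm (Fin 5)).symm = ss := by decide

theorem v4_one : ∀ p : Equiv.Perm (Fin 5), V4p p → (nn ∘ p.symm = nn ∨ nn ∘ p.symm = nn + 1) →
    (mm ∘ p.symm = mm ∨ mm ∘ p.symm = mm + 1) → p = 1 := by
  intro p hp
  rcases hp with rfl | rfl | rfl | rfl <;> decide

theorem nn_swap : nn ∘ (Equiv.swap 1 2 : Equiv.Perm (Fin 5)).symm = mm := by decide

theorem v4_core : ∀ p : Equiv.Perm (Fin 5), V4p p →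
    (Equiv.swap 3 4 * p * (Equiv.swap 3 4)⁻¹) * dd = dd * (Equiv.swap 3 4 * p * (Equiv.swap 3 4)⁻¹) →
    (Equiv.swap 2 4 * p * (Equiv.swap 2 4)⁻¹) * dd = dd * (Equiv.swap 2 4 * p * (Equiv.swap 2 4)⁻¹) → p = 1 := by
  intro p hp
  rcases hp with rfl | rfl | rfl | rfl <;> decide

/-- two elements of `F₂⁵ / 1`, the third one their sum, none fixed by `p` -/
theorem three : ∀ p : Equiv.Perm (Fin 5), V4p p → p ≠ 1 → ∃ x y : Vec,
    ¬ (x ∘ p.symm = x ∨ x ∘ p.symm = x + 1) ∧ ¬ (y ∘ p.symm = y ∨ y ∘ p.symm = y + 1) ∧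
    ¬ ((x + y) ∘ p.symm = x + y ∨ (x + y) ∘ p.symm = x + y + 1) := by
  intro p hp h1
  rcases hp with rfl | rfl | rfl | rfl
  · exact absurd rfl h1
  · exact ⟨Pi.single 0 1, Pi.single 2 1, by decide, by decide, by decide⟩
  · exact ⟨Pi.single 0 1, Pi.single 1 1, by decide, by decide, by decide⟩
  · exact ⟨Pi.single 0 1, Pi.single 1 1, by decide, by decide, by decide⟩

theorem v4_sq : ∀ p : Equiv.Perm (Fin 5), V4p p → p * p = 1 := by
  intro p hp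
  rcases hp with rfl | rfl | rfl | rfl <;> decide

theorem v4_quad : ∀ p : Equiv.Perm (Fin 5), V4p p → ∀ q : Equiv.Perm (Fin 5), V4p q → p ≠ 1 → q ≠ 1 → p ≠ q →
    ¬ (((Pi.single 0 1 : Vec) ∘ p.symm + Pi.single 0 1) ∘ q.symm = (Pi.single 0 1 : Vec) ∘ p.symm + Pi.single 0 1 ∨
      ((Pi.single 0 1 : Vec) ∘ p.symm + Pi.single 0 1) ∘ q.symm = (Pi.single 0 1 : Vec) ∘ p.symm + Pi.single 0 1 + 1) := by
  intro p hp q hq
  rcases hp with rfl | rfl | rfl | rfl <;> rcases hq with rfl | rfl | rfl | rfl <;> decide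

theorem tp_n : ∀ p : Equiv.Perm (Fin 5), TTp p →
    TTp (Equiv.swap 2 4 * p * (Equiv.swap 2 4)⁻¹) → Tp p := by
  intro p hp
  rcases hp with rfl | rfl | rfl | rfl
  · exact fun _ => Or.inl rfl
  · exact fun _ => Or.inr rfl
  · intro h; exfalso; revert h; decide
  · intro h; exfalso; revert h; decide

theorem tp_a : ∀ p : Equiv.Perm (Fin 5), TTp p →
    TTp (Equiv.swap 0 4 * p * (Equiv.swap 0 4)⁻¹) → (p = 1 ∨ p = Equiv.swap 2 3) := by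
  intro p hp
  rcases hp with rfl | rfl | rfl | rfl
  · exact fun _ => Or.inl rfl
  · intro h; exfalso; revert h; decide
  · exact fun _ => Or.inr rfl
  · intro h; exfalso; revert h; decide

theorem tp_fix : ∀ p : Equiv.Perm (Fin 5), Tp p → ∀ x : Vec, x 0 = x 1 → x ∘ p.symm = x := by
  intro p hp
  rcases hp with rfl | rfl <;> decide +kernel

theorem tp_fix' : ∀ p : Equiv.Perm (Fin 5), (p = 1 ∨ p = Equiv.swap 2 3) → ∀ x : Vec, x 2 = x 3 →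
    x ∘ p.symm = x := by
  intro p hp
  rcases hp with rfl | rfl <;> decide +kernel

end EPlus

variable {G : Type u} [Group G] [Finite G] {S : Sylow 2 G} {A L : Subgroup G} {M : FiveMod A L} {k : G}
  {V₀ : Subgroup G}

namespace Cfg

variable (c : Cfg S M k V₀)
include c

section es

variable {v : G} (hv : v ∈ V₀)
include hv

theorem vs_comm {g : G} (hg : g ∈ L) (hs : g * M.e ss = M.e ss * g) :
    g * (v * M.e ss) = v * M.e ss * g := by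
  calc g * (v * M.e ss) = (g * v) * M.e ss := by group
    _ = v * (g * M.e ss) := by rw [c.V0L g hg v hv]; group
    _ = v * M.e ss * g := by rw [hs]; group

theorem vs_S {g : G} (hg : g ∈ (S : Subgroup G)) : g * (v * M.e ss) = v * M.e ss * g :=
  c.vs_comm hv (c.S_le hg) (c.b.dih₁.S_comm hg)

theorem A_le_L : A ≤ L := c.b.dih₁.V_le_S.trans c.S_le

theorem vs_A {x : G} (hx : x ∈ A) : x * (v * M.e ss) = v * M.e ss * x :=
  c.vs_comm hv (c.A_le_L hv hx) (M.comm hx (M.e_mem _))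

theorem vs_sq : (v * M.e ss) ^ 2 = 1 := by
  have h1 := c.V0L _ (c.A_le_L hv (M.e_mem ss)) v hv
  rw [pow_two]
  calc v * M.e ss * (v * M.e ss) = v * (M.e ss * v) * M.e ss := by group
    _ = (v * v) * (M.e ss * M.e ss) := by rw [h1]; group
    _ = 1 := by rw [c.V02 v hv, M.e_sq, mul_one]

theorem vs_ne : v * M.e ss ≠ 1 := by
  intro h
  obtain ⟨g, hg, hi⟩ := M.exists_lift (Equiv.swap 3 4)
  have h1 : M.e ss = v := by
    have h2 : v * (v * M.e ss) = v := by rw [h, mul_one]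
    rwa [← mul_assoc, c.V02 v hv, one_mul] at h2
  have h2 : g * M.e ss = M.e ss * g := by
    have := c.V0L g hg v hv
    rwa [← h1] at this
  have h3 := (FiveMod.Ind.commute_iff hi ss).1 h2
  revert h3
  decide

theorem Qvs_le_S : Q (v * M.e ss) ≤ (S : Subgroup G) :=
  o2_le_of_sylow S.isPGroup' (MinSimple.Basic.not_dvd_relIndex S fun _ hg => mem_C.2 (c.vs_S hv hg))

theorem Qvs_conj {m q : G} (hm : m * (v * M.e ss) = v * M.e ss * m) (hq : q ∈ Q (v * M.e ss)) :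
    m * q * m⁻¹ ∈ Q (v * M.e ss) :=
  (mem_normalizer_iff.1 (le_normalizer_o2 _ (mem_C.2 hm)) _).1 hq

theorem Qvs_conj' {m q : G} (hm : m * (v * M.e ss) = v * M.e ss * m) (hq : q ∈ Q (v * M.e ss)) :
    m⁻¹ * q * m ∈ Q (v * M.e ss) := by
  have h1 : m⁻¹ * (v * M.e ss) = v * M.e ss * m⁻¹ := by
    rw [inv_mul_eq_iff_eq_mul, ← mul_assoc, hm, mul_inv_cancel_right]
  have h2 := c.Qvs_conj hv h1 hq
  rwa [inv_inv] at h2

theorem Qvs_ind {q : G} (hq : q ∈ Q (v * M.e ss)) : ∃ p, V4p p ∧ M.Ind q p := by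
  have hqS := c.Qvs_le_S hv hq
  obtain ⟨p, hp⟩ := M.exists_ind (c.S_le hqS)
  refine ⟨p, v4_of p (c.b.dih₁.d8 q hqS p hp) ?_, hp⟩
  obtain ⟨g, hgL, hg⟩ := M.exists_lift (Equiv.swap 1 2)
  have hgs : g * M.e ss = M.e ss * g := (FiveMod.Ind.commute_iff hg _).2 (Or.inl (by decide))
  exact c.b.dih₁.d8 _ (c.Qvs_le_S hv (c.Qvs_conj hv (c.vs_comm hv hgL hgs) hq)) _ ((FiveMod.Ind.mul hg hp).mul hg.inv)

/-- **THEOREM E+** -/
theorem A_le : A ≤ Q (v * M.e ss) := by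
  by_contra hA
  have hch := MinSimple.Basic.char2_centralizer c.b.two (c.vs_sq hv) (c.vs_ne hv)
  set e := v * M.e ss with he
  have hAK : A ≤ centralizer ({e} : Set G) := fun x hx => mem_C.2 (c.vs_A hv hx)
  -- some `q ∈ O` does not centralise `A`
  obtain ⟨q, hq, hqA⟩ : ∃ q ∈ Q e, q ∉ centralizer (A : Set G) := by
    by_contra hne
    push Not at hne
    refine hA fun x hx => hch ⟨hAK hx, mem_centralizer_iff.2 fun q hq => ?_⟩
    exact (mem_centralizer_iff.1 (hne q hq) x hx).symm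
  obtain ⟨p, hp, hi⟩ := c.Qvs_ind hv hq
  have hp1 : p ≠ 1 := fun h => hqA (FiveMod.ind_one_iff.1 (h ▸ hi))
  -- `n ∈ O`
  have hnO : M.e nn ∈ Q e := by
    obtain ⟨i, hi0, hi4, h1⟩ := EPlus.pick p hp hp1
    have h2 := hi.comm_eq (Pi.single 0 1)
    have h3 : q * M.e (Pi.single 0 1) * q⁻¹ * (M.e (Pi.single 0 1))⁻¹ ∈ Q e := by
      have h4 := c.Qvs_conj hv (c.vs_A hv (M.e_mem (Pi.single 0 1))) (inv_mem hq)
      have e1 : q * M.e (Pi.single 0 1) * q⁻¹ * (M.e (Pi.single 0 1))⁻¹ =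
          q * (M.e (Pi.single 0 1) * q⁻¹ * (M.e (Pi.single 0 1))⁻¹) := by group
      rw [e1]
      exact mul_mem hq h4
    rw [h2] at h3
    obtain ⟨g, hgL, hg⟩ := M.exists_lift (Equiv.swap 1 i)
    have hgs : g * M.e ss = M.e ss * g := (FiveMod.Ind.commute_iff hg _).2 (Or.inl (EPlus.swap_ss i hi4))
    have h4 := c.Qvs_conj hv (c.vs_comm hv hgL hgs) h3
    rw [hg, h1] at h4
    exact h4
  -- `W = ⟨e, n ^ K⟩ ≤ O`
  have hWO : UU e (M.e nn) ≤ Q e := by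
    refine UU_le ?_ fun g hg => c.Qvs_conj hv hg hnO
    refine hch ⟨mem_C.2 rfl, mem_centralizer_iff.2 fun q hq => ?_⟩
    exact mem_C.1 (o2_le _ hq)
  have hnW : M.e nn ∈ UU e (M.e nn) := mem_UU_self _ _
  have hmW : M.e mm ∈ UU e (M.e nn) := by
    obtain ⟨g, hgL, hg⟩ := M.exists_lift (Equiv.swap 1 2)
    have hgs : g * M.e ss = M.e ss * g := (FiveMod.Ind.commute_iff hg _).2 (Or.inl (by decide))
    have h1 := mem_UU (y := M.e nn) (c.vs_comm hv hgL hgs)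
    rw [hg, EPlus.nn_swap] at h1
    exact h1
  -- `B = C_O(W)`
  obtain ⟨B, hB⟩ : ∃ B : Subgroup G, B = Q e ⊓ centralizer (UU e (M.e nn) : Set G) := ⟨_, rfl⟩
  have hBA : ∀ b ∈ B, ∀ x ∈ A, b * x = x * b := by
    intro b hb x hx
    rw [hB] at hb
    obtain ⟨r, hr, hri⟩ := c.Qvs_ind hv hb.1
    have h1 := mem_centralizer_iff.1 hb.2 _ hnW
    have h2 := mem_centralizer_iff.1 hb.2 _ hmW
    have h3 := EPlus.v4_one r hr ((FiveMod.Ind.commute_iff hri _).1 h1.symm) ((FiveMod.Ind.commute_iff hri _).1 h2.symm)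
    exact (mem_centralizer_iff.1 (FiveMod.ind_one_iff.1 (h3 ▸ hri)) x hx).symm
  have hBK : ∀ g, g * e = e * g → ∀ b ∈ B, g * b * g⁻¹ ∈ B := by
    intro g hg b hb
    rw [hB] at hb ⊢
    refine ⟨c.Qvs_conj hv hg hb.1, mem_centralizer_iff.2 fun w hw => ?_⟩
    have hg' : g⁻¹ * e = e * g⁻¹ := by
      rw [inv_mul_eq_iff_eq_mul, ← mul_assoc, hg, mul_inv_cancel_right]
    have h1 := UU_norm hg' hw
    rw [inv_inv] at h1
    have h2 := mem_centralizer_iff.1 hb.2 _ h1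
    calc w * (g * b * g⁻¹) = g * (g⁻¹ * w * g * b) * g⁻¹ := by group
      _ = g * (b * (g⁻¹ * w * g)) * g⁻¹ := by rw [h2]
      _ = g * b * g⁻¹ * w := by group
  -- `B` commutes with `A ^ g`, `g ∈ K`
  have hBAg : ∀ g, g * e = e * g → ∀ x ∈ A, ∀ b ∈ B, b * (g * x * g⁻¹) = g * x * g⁻¹ * b := by
    intro g hg x hx b hb
    have hg' : g⁻¹ * e = e * g⁻¹ := by
      rw [inv_mul_eq_iff_eq_mul, ← mul_assoc, hg, mul_inv_cancel_right]
    have h1 := hBK _ hg' b hb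
    rw [inv_inv] at h1
    have h2 := hBA _ h1 x hx
    calc b * (g * x * g⁻¹) = g * (g⁻¹ * b * g * x) * g⁻¹ := by group
      _ = g * (x * (g⁻¹ * b * g)) * g⁻¹ := by rw [h2]
      _ = g * x * g⁻¹ * b := by group
  have hV0B : V₀ ≤ B := by
    intro w hw
    rw [hB]
    have h1 : ∀ s ∈ (S : Subgroup G), s * w = w * s := fun s hs => c.V0L s (c.S_le hs) w hw
    have heS : e ∈ (S : Subgroup G) := mul_mem (c.V0S hv) (c.b.dih₁.V_le_S (M.e_mem _))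
    refine ⟨hch ⟨mem_C.2 (h1 e heS).symm, mem_centralizer_iff.2 fun q hq => h1 q (c.Qvs_le_S hv hq)⟩,
      mem_centralizer_iff.2 fun q hq => h1 q (c.Qvs_le_S hv (hWO hq))⟩
  -- `B₀ = ⋂ B ^ g`
  obtain ⟨B₀, hB₀⟩ : ∃ B₀ : Subgroup G, B₀ = ⨅ g : L, ChoiceBase.cj (g : G) B := ⟨_, rfl⟩
  have hB₀m : ∀ b, b ∈ B₀ ↔ ∀ g ∈ L, g⁻¹ * b * g ∈ B := by
    intro b
    rw [hB₀, mem_iInf]
    constructor
    · intro h g hg
      have := h ⟨g, hg⟩
      rwa [mem_cj] at this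
    · rintro h ⟨g, hg⟩
      rw [mem_cj]
      exact h g hg
  have hB₀B : B₀ ≤ B := by
    intro b hb
    have := (hB₀m b).1 hb 1 (one_mem _)
    simpa using this
  have hV0B₀ : V₀ ≤ B₀ := by
    intro w hw
    rw [hB₀m]
    intro g hg
    have h1 := c.V0L g hg w hw
    have h2 : g⁻¹ * w * g = w := by
      rw [mul_assoc, ← h1, ← mul_assoc, inv_mul_cancel, one_mul]
    rw [h2]
    exact hV0B hw
  have hB₀2 : IsPGroup 2 B₀ := (o2_isPGroup (centralizer ({e} : Set G))).to_le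
    (hB₀B.trans (hB.le.trans inf_le_left))
  have hB₀ne : B₀ ≠ ⊥ := fun h => c.ne (le_bot_iff.1 (h ▸ hV0B₀))
  set M₀ := normalizer (B₀ : Set G) with hM₀
  have hLM₀ : L ≤ M₀ := by
    have key : ∀ g ∈ L, ∀ b ∈ B₀, g * b * g⁻¹ ∈ B₀ := by
      intro g hg b hb
      rw [hB₀m] at hb ⊢
      intro g' hg'
      have h1 := hb (g⁻¹ * g') (mul_mem (inv_mem hg) hg')
      have e1 : (g⁻¹ * g')⁻¹ * b * (g⁻¹ * g') = g'⁻¹ * (g * b * g⁻¹) * g' := by group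
      rwa [e1] at h1
    intro g hg
    rw [hM₀, mem_normalizer_iff]
    intro b
    refine ⟨key g hg b, fun h => ?_⟩
    have h1 := key g⁻¹ (inv_mem hg) _ h
    have e1 : g⁻¹ * (g * b * g⁻¹) * g⁻¹⁻¹ = b := by group
    rwa [e1] at h1
  have hch₀ := MinSimple.Basic.char2_normalizer c.b.two hB₀2 hB₀ne
  rw [← hM₀] at hch₀
  have hO₀S : o2 M₀ ≤ (S : Subgroup G) :=
    o2_le_of_sylow S.isPGroup' (MinSimple.Basic.not_dvd_relIndex S (c.S_le.trans hLM₀))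
  -- `O₂(M₀)` centralises `A`
  have hO₀A : ∀ q ∈ o2 M₀, ∀ x ∈ A, q * x = x * q := by
    intro q hq x hx
    obtain ⟨r, hr⟩ := M.exists_ind (c.S_le (hO₀S hq))
    have hcj : ∀ σ : Equiv.Perm (Fin 5), σ * r * σ⁻¹ * dd = dd * (σ * r * σ⁻¹) := by
      intro σ
      obtain ⟨g, hgL, hg⟩ := M.exists_lift σ
      have h1 : g * q * g⁻¹ ∈ o2 M₀ := (mem_normalizer_iff.1 (le_normalizer_o2 M₀ (hLM₀ hgL)) _).1 hq
      exact c.b.dih₁.d8 _ (hO₀S h1) _ ((FiveMod.Ind.mul hg hr).mul (FiveMod.Ind.inv hg))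
    have h4 : V4p r := v4_of r (by simpa using hcj 1) (hcj (Equiv.swap 1 2))
    have h1 := EPlus.v4_core r h4 (hcj _) (hcj _)
    exact (mem_centralizer_iff.1 (FiveMod.ind_one_iff.1 (h1 ▸ hr)) x hx).symm
  have hAO₀ : A ≤ o2 M₀ := fun x hx => hch₀ ⟨hLM₀ (c.A_le_L hv hx),
    mem_centralizer_iff.2 fun q hq => hO₀A q hq x hx⟩
  -- `Y = ⟨A ^ K⟩`
  have hYM₀ : WW A A e ≤ M₀ := by
    have h1 : ∀ g, g * e = e * g → ∀ x ∈ A, g * x * g⁻¹ ∈ M₀ := by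
      intro g hg x hx
      refine centralizer_le_normalizer _ (mem_centralizer_iff.2 fun b hb => ?_)
      exact hBAg g hg x hx b (hB₀B hb)
    exact WW_le h1 h1
  have hYK : WW A A e ≤ centralizer ({e} : Set G) := by
    have h1 : ∀ g, g * e = e * g → ∀ x ∈ A, g * x * g⁻¹ ∈ centralizer ({e} : Set G) := by
      intro g hg x hx
      exact (centralizer ({e} : Set G)).mul_mem ((centralizer ({e} : Set G)).mul_mem (mem_C.2 hg) (hAK hx))
        ((centralizer ({e} : Set G)).inv_mem (mem_C.2 hg))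
    exact WW_le h1 h1
  have h1 : o2 M₀ ⊓ WW A A e ≤ Q e := by
    refine BTwo.le_O2_of_chain (A := o2 M₀ ⊓ WW A A e) (B := WW A A e) (C := WW A A e) inf_le_right le_rfl hYK
      ((o2_isPGroup M₀).to_le inf_le_left) ?_ ?_ ?_
    · rintro b hb a ⟨ha, ha'⟩
      exact ⟨(mem_normalizer_iff.1 (le_normalizer_o2 M₀ (hYM₀ hb)) _).1 ha,
        (WW A A e).mul_mem ((WW A A e).mul_mem hb ha') ((WW A A e).inv_mem hb)⟩
    · intro b hb a ha
      exact (WW A A e).mul_mem ((WW A A e).mul_mem hb ha) ((WW A A e).inv_mem hb)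
    · intro g hg a ha
      exact WW_norm (mem_C.1 hg) ha
  exact hA fun x hx => h1 ⟨hAO₀ hx, le_WW₁ A A e hx⟩

/-- `A` and `A ^ m` commute, `m ∈ C_G(v s)` -/
theorem comm_cj {m : G} (hm : m * (v * M.e ss) = v * M.e ss * m) {x w : G} (hx : x ∈ A)
    (hw : w ∈ ChoiceBase.cj m A) : x * w = w * x := by
  have hA := c.A_le hv
  have hact : ∀ u ∈ A, ∃ q, V4p q ∧ (M.cj m).Ind u q := by
    intro u hu
    obtain ⟨q, hq, hqi⟩ := c.Qvs_ind hv (c.Qvs_conj' hv hm (hA hu))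
    refine ⟨q, hq, ?_⟩
    have h1 := M.cj_ind (g := m) hqi
    have e1 : m * (m⁻¹ * u * m) * m⁻¹ = u := by group
    rwa [e1] at h1
  have hwO : w ∈ Q (v * M.e ss) := by
    obtain ⟨w', hw', rfl⟩ := hw
    exact c.Qvs_conj hv hm (hA hw')
  obtain ⟨p, hp, hi⟩ := c.Qvs_ind hv hwO
  by_cases hp1 : p = 1
  · rw [hp1] at hi
    exact mem_centralizer_iff.1 (FiveMod.ind_one_iff.1 hi) x hx
  exfalso
  obtain ⟨a, d, ha, hd, had⟩ := EPlus.three p hp hp1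
  obtain ⟨q, hq, hqi⟩ := hact _ (M.e_mem a)
  obtain ⟨r, hr, hri⟩ := hact _ (M.e_mem d)
  have key : ∀ u ∈ A, (M.cj m).Ind u 1 → u * w = w * u := fun u _ hu =>
    (mem_centralizer_iff.1 (FiveMod.ind_one_iff.1 hu) w hw).symm
  have hq1 : q ≠ 1 := fun h => ha ((FiveMod.Ind.commute_iff hi _).1 (key _ (M.e_mem a) (h ▸ hqi)).symm)
  have hr1 : r ≠ 1 := fun h => hd ((FiveMod.Ind.commute_iff hi _).1 (key _ (M.e_mem d) (h ▸ hri)).symm)
  have hqr : q ≠ r := by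
    intro h
    have h1 : (M.cj m).Ind (M.e (a + d)) 1 := by
      rw [M.e_add]
      have h2 := FiveMod.Ind.mul hqi hri
      rwa [← h, EPlus.v4_sq q hq] at h2
    exact had ((FiveMod.Ind.commute_iff hi _).1 (key _ (M.e_mem _) h1).symm)
  -- `[M.e a, w']` lies in `A`, so it commutes with `M.e d`
  have h1 := hqi.comm_eq (Pi.single 0 1)
  have hw'O : (M.cj m).e (Pi.single 0 1) ∈ Q (v * M.e ss) := by
    rw [M.cj_e]
    exact c.Qvs_conj hv hm (hA (M.e_mem _))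
  obtain ⟨r', -, hri'⟩ := c.Qvs_ind hv hw'O
  have h2 : M.e a * (M.cj m).e (Pi.single 0 1) * (M.e a)⁻¹ * ((M.cj m).e (Pi.single 0 1))⁻¹ ∈ A := by
    have e1 : M.e a * (M.cj m).e (Pi.single 0 1) * (M.e a)⁻¹ * ((M.cj m).e (Pi.single 0 1))⁻¹ =
        M.e a * ((M.cj m).e (Pi.single 0 1) * (M.e a)⁻¹ * ((M.cj m).e (Pi.single 0 1))⁻¹) := by group
    rw [e1]
    refine mul_mem (M.e_mem a) ?_
    rw [M.e_inv, hri' a]
    exact M.e_mem _
  rw [h1] at h2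
  have h3 : M.e d * (M.cj m).e ((Pi.single 0 1 : Vec) ∘ q.symm + Pi.single 0 1) =
      (M.cj m).e ((Pi.single 0 1 : Vec) ∘ q.symm + Pi.single 0 1) * M.e d := M.comm (M.e_mem d) h2
  exact EPlus.v4_quad q hq r hr hq1 hr1 hqr ((FiveMod.Ind.commute_iff hri _).1 h3)

/-- `⟨A ^ C_G(v s)⟩` is abelian -/
theorem comm_s {g x y : G} (hg : g * (v * M.e ss) = v * M.e ss * g) (hx : x ∈ A) (hy : y ∈ A) :
    x * (g * y * g⁻¹) = g * y * g⁻¹ * x := c.comm_cj hv hg hx ⟨y, hy, rfl⟩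

end es

/-! ### (3) -/

/-- `A ≤ Z(O₂(C_G(v)))` -/
theorem comm_V0 {v : G} (hv : v ∈ V₀) (hv1 : v ≠ 1) {x : G} (hx : x ∈ A) :
    x ∈ Q v ∧ ∀ q ∈ Q v, q * x = x * q := by
  have hLC : L ≤ centralizer ({v} : Set G) := fun g hg => mem_C.2 (c.V0L g hg v hv)
  have hQS : Q v ≤ (S : Subgroup G) :=
    o2_le_of_sylow S.isPGroup' (MinSimple.Basic.not_dvd_relIndex S (c.S_le.trans hLC))
  have hQA : ∀ q ∈ Q v, q * x = x * q := by
    intro q hq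
    obtain ⟨r, hr⟩ := M.exists_ind (c.S_le (hQS hq))
    have hcj : ∀ σ : Equiv.Perm (Fin 5), σ * r * σ⁻¹ * dd = dd * (σ * r * σ⁻¹) := by
      intro σ
      obtain ⟨g, hgL, hg⟩ := M.exists_lift σ
      have h1 : g * q * g⁻¹ ∈ Q v := (mem_normalizer_iff.1 (le_normalizer_o2 _ (hLC hgL)) _).1 hq
      exact c.b.dih₁.d8 _ (hQS h1) _ ((FiveMod.Ind.mul hg hr).mul (FiveMod.Ind.inv hg))
    have h4 : V4p r := v4_of r (by simpa using hcj 1) (hcj (Equiv.swap 1 2))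
    have h1 := EPlus.v4_core r h4 (hcj _) (hcj _)
    exact (mem_centralizer_iff.1 (FiveMod.ind_one_iff.1 (h1 ▸ hr)) x hx).symm
  refine ⟨?_, hQA⟩
  refine MinSimple.Basic.char2_centralizer c.b.two (by rw [pow_two]; exact c.V02 v hv) hv1 ⟨?_, ?_⟩
  · exact hLC (c.A_le_L hv hx)
  · exact mem_centralizer_iff.2 hQA

/-- a subgroup of `T` normalised by `C_L(n)` acts inside `⟨(0 1)⟩` -/
theorem ind_n {O : Subgroup G} (hOT : O ≤ TS S M)
    (hn : ∀ g ∈ L, g * M.e nn = M.e nn * g → ∀ q ∈ O, g * q * g⁻¹ ∈ O) {q : G} (hq : q ∈ O) :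
    ∃ p, Tp p ∧ M.Ind q p := by
  obtain ⟨p, hp, hi⟩ := c.b.dih₁.T_ind (hOT hq)
  refine ⟨p, ?_, hi⟩
  obtain ⟨g, hgL, hg⟩ := M.exists_lift (Equiv.swap 2 4)
  have hgn : g * M.e nn = M.e nn * g := (FiveMod.Ind.commute_iff hg _).2 (Or.inl (by decide))
  obtain ⟨r, hr, hri⟩ := c.b.dih₁.T_ind (hOT (hn g hgL hgn q hq))
  have h1 := FiveMod.Ind.unique hri ((FiveMod.Ind.mul hg hi).mul (FiveMod.Ind.inv hg))
  rw [h1] at hr
  exact EPlus.tp_n p hp hr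

theorem ind_a {O : Subgroup G} (hOT : O ≤ TS S M)
    (hn : ∀ g ∈ L, g * M.e aa = M.e aa * g → ∀ q ∈ O, g * q * g⁻¹ ∈ O) {q : G} (hq : q ∈ O) :
    ∃ p, (p = 1 ∨ p = Equiv.swap 2 3) ∧ M.Ind q p := by
  obtain ⟨p, hp, hi⟩ := c.b.dih₁.T_ind (hOT hq)
  refine ⟨p, ?_, hi⟩
  obtain ⟨g, hgL, hg⟩ := M.exists_lift (Equiv.swap 0 4)
  have hgn : g * M.e aa = M.e aa * g := (FiveMod.Ind.commute_iff hg _).2 (Or.inl (by decide))
  obtain ⟨r, hr, hri⟩ := c.b.dih₁.T_ind (hOT (hn g hgL hgn q hq))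
  have h1 := FiveMod.Ind.unique hri ((FiveMod.Ind.mul hg hi).mul (FiveMod.Ind.inv hg))
  rw [h1] at hr
  exact EPlus.tp_a p hp hr

theorem V0A_sq {v x : G} (hv : v ∈ V₀) (hx : x ∈ A) : v * x * (v * x) = 1 := by
  have h1 := c.V0L x (c.A_le_L hv hx) v hv
  calc v * x * (v * x) = v * (x * v) * x := by group
    _ = (v * v) * (x * x) := by rw [h1]; group
    _ = 1 := by rw [c.V02 v hv, M.sq hx, mul_one]

theorem V0A_comm {v x g : G} (hv : v ∈ V₀) (hg : g ∈ L) (hgx : g * x = x * g) : g * (v * x) = v * x * g := by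
  calc g * (v * x) = (g * v) * x := by group
    _ = v * (g * x) := by rw [c.V0L g hg v hv]; group
    _ = v * x * g := by rw [hgx]; group

/-- `O₂(C_G(v n)) ≤ T` -/
theorem Qn_le {v : G} (hv : v ∈ V₀) : Q (v * M.e nn) ≤ TS S M :=
  o2_le_of_sylow c.T_p (c.odd_cen (mul_mem (c.V0_zcT hv) c.n_zcT) (c.not_zcS_n hv))

theorem Qa_le {v : G} (hv : v ∈ V₀) : Q (v * M.e aa) ≤ TS S M :=
  o2_le_of_sylow c.T_p (c.odd_cen (mul_mem (c.V0_zcT hv) c.a_zcT) (c.not_zcS_a hv))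

theorem ne_n {v : G} (hv : v ∈ V₀) : v * M.e nn ≠ 1 := fun h => c.not_zcS_n hv (h ▸ one_mem _)

theorem ne_a {v : G} (hv : v ∈ V₀) : v * M.e aa ≠ 1 := fun h => c.not_zcS_a hv (h ▸ one_mem _)

theorem Q_ind_n {v : G} (hv : v ∈ V₀) {q : G} (hq : q ∈ Q (v * M.e nn)) : ∃ p, Tp p ∧ M.Ind q p :=
  c.ind_n (c.Qn_le hv) (fun _ hg hgn _ hq => (mem_normalizer_iff.1
    (le_normalizer_o2 _ (mem_C.2 (c.V0A_comm hv hg hgn))) _).1 hq) hq

theorem Q_ind_a {v : G} (hv : v ∈ V₀) {q : G} (hq : q ∈ Q (v * M.e aa)) :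
    ∃ p, (p = 1 ∨ p = Equiv.swap 2 3) ∧ M.Ind q p :=
  c.ind_a (c.Qa_le hv) (fun _ hg hgn _ hq => (mem_normalizer_iff.1
    (le_normalizer_o2 _ (mem_C.2 (c.V0A_comm hv hg hgn))) _).1 hq) hq

/-- `n ^ ⊥ ≤ Z(O₂(C_G(v n)))` -/
theorem comm_n {v : G} (hv : v ∈ V₀) {x : Vec} (hx : x 0 = x 1) :
    M.e x ∈ Q (v * M.e nn) ∧ ∀ q ∈ Q (v * M.e nn), q * M.e x = M.e x * q := by
  have hQ : ∀ q ∈ Q (v * M.e nn), q * M.e x = M.e x * q := by
    intro q hq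
    obtain ⟨p, hp, hi⟩ := c.Q_ind_n hv hq
    exact (FiveMod.Ind.commute_iff hi _).2 (Or.inl (EPlus.tp_fix p hp x hx))
  refine ⟨MinSimple.Basic.char2_centralizer c.b.two ?_ (c.ne_n hv) ⟨?_, mem_centralizer_iff.2 hQ⟩, hQ⟩
  · rw [pow_two]; exact c.V0A_sq hv (M.e_mem _)
  · exact mem_C.2 (c.V0A_comm hv (c.A_le_L hv (M.e_mem _)) (M.e_comm _ _))

/-- `a ^ ⊥ ≤ Z(O₂(C_G(v a)))` -/
theorem comm_a {v : G} (hv : v ∈ V₀) {x : Vec} (hx : x 2 = x 3) :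
    M.e x ∈ Q (v * M.e aa) ∧ ∀ q ∈ Q (v * M.e aa), q * M.e x = M.e x * q := by
  have hQ : ∀ q ∈ Q (v * M.e aa), q * M.e x = M.e x * q := by
    intro q hq
    obtain ⟨p, hp, hi⟩ := c.Q_ind_a hv hq
    exact (FiveMod.Ind.commute_iff hi _).2 (Or.inl (EPlus.tp_fix' p hp x hx))
  refine ⟨MinSimple.Basic.char2_centralizer c.b.two ?_ (c.ne_a hv) ⟨?_, mem_centralizer_iff.2 hQ⟩, hQ⟩
  · rw [pow_two]; exact c.V0A_sq hv (M.e_mem _)
  · exact mem_C.2 (c.V0A_comm hv (c.A_le_L hv (M.e_mem _)) (M.e_comm _ _))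

end Cfg

end Cfsg.Agent.Omega.F4Leaf.OT.Tone
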