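import Cfsg.Agent.Omega.F4Leaf.OT.Line
import Cfsg.Agent.Omega.HT.Dt
import Cfsg.Agent.Omega.HT.LemE
import Cfsg.Agent.Omega.HT.JunAB

/-!
# LeafF4 (O1), #18759 (4): the instance of II.0h1 over `T`

* `htt` : `HTT T P V R 0`, `P = ⟨T, X⟩`;
* `mem_Z0` : `Z₀ = V₀ ⟨a⟩`;
* `hLE` : LEMMA E;
* `odd_MZ`, `odd_MP` : `T` has odd index in `⟨C(Ω₁Z(T)), X⟩`, `⟨C(n) ∩ C(z), X⟩` (`z = v a`).
-/

set_option autoImplicit false
set_option linter.unusedSectionVars false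

namespace Cfsg.Agent.Omega.F4Leaf.OT.Inst

open Subgroup Cfsg
open Cfsg.Agent.ZN hiding le_normalizer_o2 mem_zc zc_comm zc_sq
open Cfsg.Agent.Omega.BTwo hiding cj_O2
open Cfsg.Agent.Omega.S5.Mod Cfsg.Agent.Omega.S5.TT Cfsg.Agent.Omega.TTn
open Cfsg.Agent.Omega.HT Cfsg.Agent.Omega.HTwo Cfsg.Agent.Omega.HTwo.ThmA
open Cfsg.Agent.Omega.F4Leaf.OT.Tone Cfsg.Agent.Omega.F4Leaf.OT.Line
open Cfsg.Agent.Omega.TTn.Z (Base)
open Cfsg.Agent.Omega.S5.TT.Pos (na ns as sn n_ne s_ne a_ne n_ne_a n_ne_s a_ne_s e_sq' mem_C)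
open Cfsg.Agent.MinSimple.VModule (o2_isPGroup le_o2 o2_le le_normalizer_o2 o2_le_of_sylow mem_zc zc_le zc_comm zc_sq)

universe u

variable {G : Type u} [Group G]

/-- `P = ⟨T, X⟩` -/
def PP (S : Sylow 2 G) {A L : Subgroup G} (M : FiveMod A L) : Subgroup G := TS S M ⊔ XX (LV M) (R M)

variable [Finite G] {S : Sylow 2 G} {A L : Subgroup G} {M : FiveMod A L} {k : G} {V₀ : Subgroup G}
  (c : Cfg S M k V₀)
include c

theorem bt' : BT (LV M) (R M) := bt c.b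

/-- `T` centralises `a` and `V₀` -/
theorem T_a {g : G} (hg : g ∈ TS S M) : g * M.e aa = M.e aa * g := c.b.dih₁.T_comm_a hg

/-- `X` centralises `a` and `V₀` -/
theorem X_cen {g : G} (hg : g ∈ XX (LV M) (R M)) :
    g * M.e aa = M.e aa * g ∧ ∀ v ∈ V₀, g * v = v * g := by
  have h1 : XX (LV M) (R M) ≤ centralizer ({M.e aa} : Set G) ⊓ centralizer (V₀ : Set G) := by
    refine iSup_le fun i => ((bt' c).W_le_Q i).trans ?_
    obtain ⟨l, hlL, hl⟩ := exists_sg M i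
    rw [← mov_QQ hl, QQ_zero]
    have hl' : l ∈ centralizer ({M.e aa} : Set G) ⊓ centralizer (V₀ : Set G) := by
      refine ⟨mem_C.2 (mov_aa hl), mem_centralizer_iff.2 fun v hv => ?_⟩
      exact (c.V0L l hlL v hv).symm
    rw [BTwo.cj_le_iff]
    intro x hx
    have hxT : x ∈ TS S M := c.b.Q_le_T hx
    have hx' : x ∈ centralizer ({M.e aa} : Set G) ⊓ centralizer (V₀ : Set G) :=
      ⟨mem_C.2 (T_a c hxT), mem_centralizer_iff.2 fun v hv => (c.V0L x (c.T_le_L hxT) v hv).symm⟩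
    exact mul_mem (mul_mem hl' hx') (inv_mem hl')
  obtain ⟨h2, h3⟩ := h1 hg
  exact ⟨mem_C.1 h2, fun v hv => (mem_centralizer_iff.1 h3 v hv).symm⟩

theorem P_cen {g : G} (hg : g ∈ PP S M) : g * M.e aa = M.e aa * g ∧ ∀ v ∈ V₀, g * v = v * g := by
  have h1 : PP S M ≤ centralizer ({M.e aa} : Set G) ⊓ centralizer (V₀ : Set G) := by
    refine sup_le ?_ ?_
    · intro x hx
      exact ⟨mem_C.2 (T_a c hx), mem_centralizer_iff.2 fun v hv => (c.V0L x (c.T_le_L hx) v hv).symm⟩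
    · intro x hx
      obtain ⟨h1, h2⟩ := X_cen c hx
      exact ⟨mem_C.2 h1, mem_centralizer_iff.2 fun v hv => (h2 v hv).symm⟩
  obtain ⟨h2, h3⟩ := h1 hg
  exact ⟨mem_C.1 h2, fun v hv => (mem_centralizer_iff.1 h3 v hv).symm⟩

theorem T_norm : TS S M ≤ normalizer (LV M : Set G) := by
  intro g hg
  obtain ⟨p, hp, hi⟩ := c.b.dih₁.T_ind hg
  refine norm_of M fun i => ?_
  obtain ⟨j, hj⟩ := ttp_lv p hp i
  exact ⟨j, by rw [hi, hj]⟩

/-- an element of `X` moving `n` to the point `i` -/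
theorem exists_X (i : Fin 3) : ∃ g ∈ XX (LV M) (R M), g * M.e nn * g⁻¹ = M.e (lv i) := by
  obtain ⟨g, hg, h⟩ := (bt' c).trans_X_one 0 i
  refine ⟨g, hg, ?_⟩
  have h1 : g * M.e (lv 0) * g⁻¹ ∈ R M i := by rw [← h]; exact BTwo.conj_mem_cj (gen_mem M 0)
  rcases (mem_R M).1 h1 with h2 | h2
  · exfalso
    apply e_lv_ne M 0
    have : M.e (lv 0) = g⁻¹ * (g * M.e (lv 0) * g⁻¹) * g := by group
    rw [this, h2]; group
  · exact h2

theorem loc {N : Subgroup G} (hS : TS S M ≤ N) (hX : XX (LV M) (R M) ≤ N) :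
    o2 N ≤ centralizer (LV M : Set G) := by
  obtain ⟨x, hxS, hx⟩ := c.b.dih₁.exists_swap
  have hOn : ∀ {g w : G}, g ∈ N → w ∈ o2 N → g * w * g⁻¹ ∈ o2 N := fun {g w} hg hw =>
    (mem_normalizer_iff.1 (le_normalizer_o2 N hg) w).1 hw
  obtain ⟨RR, hRR⟩ : ∃ RR, RR = o2 N ⊔ TS S M := ⟨_, rfl⟩
  have hRp : IsPGroup 2 RR := by
    rw [hRR]
    exact IsPGroup.to_sup_of_normal_left' (o2_isPGroup N) c.T_p (hS.trans (le_normalizer_o2 N))
  have hTR : TS S M ≤ RR := by rw [hRR]; exact le_sup_right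
  have hOR : o2 N ≤ RR := by rw [hRR]; exact le_sup_left
  -- `O ≤ T`
  have hOT : o2 N ≤ TS S M := by
    intro w hw
    by_contra hwT
    have a1 : w * M.e nn * w⁻¹ = M.e aa := by
      rw [← c.act_eq hRp hTR (hOR hw) hwT hx hxS _ c.n_zcT, Z.Dih.tt_n hx]
    have a2 : w * M.e aa * w⁻¹ = M.e nn := by
      rw [← c.act_eq hRp hTR (hOR hw) hwT hx hxS _ c.a_zcT, Z.Dih.tt_a hx]
    obtain ⟨g, hg, hgn⟩ := exists_X c 1
    have hga := (X_cen c hg).1
    obtain ⟨u, hu⟩ : ∃ u, u = (g * w * g⁻¹)⁻¹ * w := ⟨_, rfl⟩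
    have huO : u ∈ o2 N := by rw [hu]; exact mul_mem (inv_mem (hOn (hX hg) hw)) hw
    have hun : u * M.e nn * u⁻¹ = M.e (lv 1) := by
      have e1 : g⁻¹ * M.e aa * g = M.e aa := by rw [mul_assoc, ← hga]; group
      have e2 : w⁻¹ * M.e aa * w = M.e nn := by rw [← a1]; group
      calc u * M.e nn * u⁻¹ = g * (w⁻¹ * (g⁻¹ * (w * M.e nn * w⁻¹) * g) * w) * g⁻¹ := by rw [hu]; group
        _ = M.e (lv 1) := by rw [a1, e1, e2, hgn]
    by_cases huT : u ∈ TS S M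
    · have h1 : u * M.e nn * u⁻¹ = M.e (lv 0) := by rw [mem_C.1 huT.2, mul_inv_cancel_right]; rfl
      rw [hun] at h1
      have := e_lv_inj M h1
      revert this; decide
    · have h1 : u * M.e nn * u⁻¹ = M.e aa := by
        rw [← c.act_eq hRp hTR (hOR huO) huT hx hxS _ c.n_zcT, Z.Dih.tt_n hx]
      rw [hun, M.e_eq_iff] at h1
      revert h1; decide
  intro w hw
  rw [mem_centralizer_iff]
  rintro v (rfl | ⟨i, rfl⟩)
  · rw [mul_one, one_mul]
  · obtain ⟨g, hg, hgn⟩ := exists_X c i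
    have h1 : g⁻¹ * w * g ∈ o2 N := by
      have := hOn (inv_mem (hX hg)) hw
      rwa [inv_inv] at this
    have h2 := mem_C.1 (hOT h1).2
    rw [← hgn]
    calc g * M.e nn * g⁻¹ * w = g * (M.e nn * (g⁻¹ * w * g)) * g⁻¹ := by group
      _ = g * (g⁻¹ * w * g * M.e nn) * g⁻¹ := by rw [h2]
      _ = w * (g * M.e nn * g⁻¹) := by group

/-- **the instance** -/
theorem htt : HTT (TS S M) (PP S M) (LV M) (R M) 0 where
  toBT := bt' c
  card_R := Line.card_R M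
  char2 := c.b.two
  S_p := c.T_p
  S_odd := by rw [normR]; exact c.b.not_dvd
  S_V := T_norm c
  S_R := by rw [normR]; exact inf_le_right
  S_P := le_sup_left
  P_V := sup_le (T_norm c) (bt' c).X_le_NV
  P_trans := by
    intro i
    obtain ⟨g, hg, h⟩ := (bt' c).trans_X_one 0 i
    exact ⟨g, (le_sup_right : XX (LV M) (R M) ≤ PP S M) hg, h⟩
  P_Z := by
    intro x hx z hz
    obtain ⟨hxa, hxv⟩ := P_cen c hx
    have hxN : x ∈ normalizer (LV M : Set G) := (sup_le (T_norm c) (bt' c).X_le_NV : PP S M ≤ _) hx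
    have hn : M.e nn ∈ LV M := lv_mem M 0
    have hn' : x * M.e nn * x⁻¹ ∈ LV M := BTwo.conj_mem_of_normalizer hxN hn
    have hnn : x * M.e nn * x⁻¹ * (M.e nn)⁻¹ ∈ LV M := mul_mem hn' (inv_mem hn)
    obtain ⟨v, hv, h1⟩ := c.zT z hz
    have hxv' : x * v * x⁻¹ = v := by rw [hxv v hv, mul_inv_cancel_right]
    have hxa' : x * M.e aa * x⁻¹ = M.e aa := by rw [hxa, mul_inv_cancel_right]
    have hvA : ∀ y, v * M.e y = M.e y * v := fun y => (c.V0L _ (c.A_le_L hv (M.e_mem y)) v hv).symm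
    rcases h1 with rfl | rfl | rfl | rfl
    · rw [hxv', mul_inv_cancel]; exact one_mem _
    · have e1 : x * (v * M.e nn) * x⁻¹ * (v * M.e nn)⁻¹ = x * M.e nn * x⁻¹ * (M.e nn)⁻¹ := by
        have h2 : v * (x * M.e nn * x⁻¹) = x * M.e nn * x⁻¹ * v := by
          obtain ⟨y, hy⟩ := (M.mem_iff _).1 (LV_le M hn')
          rw [← hy]; exact hvA y
        calc x * (v * M.e nn) * x⁻¹ * (v * M.e nn)⁻¹ = (x * v * x⁻¹) * (x * M.e nn * x⁻¹) * (M.e nn)⁻¹ * v⁻¹ := by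
              group
          _ = (x * M.e nn * x⁻¹) * (v * (M.e nn)⁻¹) * v⁻¹ := by rw [hxv', h2]; group
          _ = (x * M.e nn * x⁻¹) * (M.e nn)⁻¹ := by rw [M.e_inv, hvA]; group
      rw [e1]; exact hnn
    · have e1 : x * (v * M.e aa) * x⁻¹ * (v * M.e aa)⁻¹ = 1 := by
        have e2 : x * (v * M.e aa) * x⁻¹ = (x * v * x⁻¹) * (x * M.e aa * x⁻¹) := by group
        rw [e2, hxv', hxa', mul_inv_cancel]
      rw [e1]; exact one_mem _
    · have e1 : x * (v * M.e ss) * x⁻¹ * (v * M.e ss)⁻¹ = x * M.e nn * x⁻¹ * (M.e nn)⁻¹ := by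
        have h2 : v * M.e aa * (x * M.e nn * x⁻¹) = x * M.e nn * x⁻¹ * (v * M.e aa) := by
          obtain ⟨y, hy⟩ := (M.mem_iff _).1 (LV_le M hn')
          rw [← hy]
          calc v * M.e aa * M.e y = v * (M.e aa * M.e y) := by group
            _ = (v * M.e y) * M.e aa := by rw [M.e_comm]; group
            _ = M.e y * (v * M.e aa) := by rw [hvA]; group
        have h3 : v * M.e ss = v * M.e aa * M.e nn := by rw [mul_assoc, M.e_comm aa nn, na]
        rw [h3]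
        calc x * (v * M.e aa * M.e nn) * x⁻¹ * (v * M.e aa * M.e nn)⁻¹ =
              (x * v * x⁻¹) * (x * M.e aa * x⁻¹) * (x * M.e nn * x⁻¹) * (M.e nn)⁻¹ * (v * M.e aa)⁻¹ := by
              group
          _ = v * M.e aa * (x * M.e nn * x⁻¹) * (M.e nn)⁻¹ * (v * M.e aa)⁻¹ := by rw [hxv', hxa']
          _ = (x * M.e nn * x⁻¹) * (v * M.e aa * M.e nn) * (v * M.e aa)⁻¹ := by rw [h2, M.e_inv]; group
          _ = (x * M.e nn * x⁻¹) * (M.e nn * (v * M.e aa)) * (v * M.e aa)⁻¹ := by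
              have h4 : v * M.e aa * M.e nn = M.e nn * (v * M.e aa) := by
                calc v * M.e aa * M.e nn = v * (M.e nn * M.e aa) := by rw [mul_assoc, M.e_comm aa nn]
                  _ = (v * M.e nn) * M.e aa := by group
                  _ = M.e nn * (v * M.e aa) := by rw [hvA]; group
              rw [h4]
          _ = x * M.e nn * x⁻¹ * (M.e nn)⁻¹ := by rw [M.e_inv]; group
      rw [e1]; exact hnn
  loc := fun N hS hX _ _ => loc c hS hX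

/-! ### `Z₀ = V₀ ⟨a⟩` -/

theorem V0_Z0 {v : G} (hv : v ∈ V₀) : v ∈ zc (TS S M) ⊓ centralizer (PP S M : Set G) :=
  ⟨c.V0_zcT hv, mem_centralizer_iff.2 fun _ hg => (P_cen c hg).2 v hv⟩

theorem a_Z0 : M.e aa ∈ zc (TS S M) ⊓ centralizer (PP S M : Set G) :=
  ⟨c.a_zcT, mem_centralizer_iff.2 fun _ hg => (P_cen c hg).1⟩

theorem va_Z0 {v : G} (hv : v ∈ V₀) : v * M.e aa ∈ zc (TS S M) ⊓ centralizer (PP S M : Set G) :=
  mul_mem (V0_Z0 c hv) (a_Z0 c)

/-- `n ∉ C(X)` -/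
theorem n_not_X : ∃ g ∈ XX (LV M) (R M), g * M.e nn ≠ M.e nn * g := by
  obtain ⟨g, hg, hgn⟩ := exists_X c 1
  refine ⟨g, hg, fun h => ?_⟩
  rw [h, mul_inv_cancel_right] at hgn
  have := e_lv_inj M (i := 0) (j := 1) hgn
  revert this; decide

/-- the elements of `Ω₁(Z(T))` centralised by `X` -/
theorem of_zcT {z : G} (hz : z ∈ zc (TS S M)) (hX : ∀ g ∈ XX (LV M) (R M), g * z = z * g) :
    ∃ v ∈ V₀, z = v ∨ z = v * M.e aa := by
  obtain ⟨g, hg, hgn⟩ := n_not_X c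
  obtain ⟨hga, hgv⟩ := X_cen c hg
  obtain ⟨v, hv, h1⟩ := c.zT z hz
  have h2 := hX g hg
  have hgv' := hgv v hv
  rcases h1 with h1 | h1 | h1 | h1
  · exact ⟨v, hv, Or.inl h1⟩
  · exfalso
    apply hgn
    rw [h1] at h2
    apply mul_left_cancel (a := v)
    calc v * (g * M.e nn) = (v * g) * M.e nn := by group
      _ = g * (v * M.e nn) := by rw [← hgv']; group
      _ = v * (M.e nn * g) := by rw [h2]; group
  · exact ⟨v, hv, Or.inr h1⟩
  · exfalso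
    apply hgn
    have h3 : v * M.e ss = v * M.e aa * M.e nn := by rw [mul_assoc, M.e_comm aa nn, na]
    rw [h1, h3] at h2
    have h4 : g * (v * M.e aa) = v * M.e aa * g := by
      calc g * (v * M.e aa) = (g * v) * M.e aa := by group
        _ = v * (g * M.e aa) := by rw [hgv']; group
        _ = v * M.e aa * g := by rw [hga]; group
    apply mul_left_cancel (a := v * M.e aa)
    calc v * M.e aa * (g * M.e nn) = (v * M.e aa * g) * M.e nn := by group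
      _ = g * (v * M.e aa * M.e nn) := by rw [← h4]; group
      _ = v * M.e aa * (M.e nn * g) := by rw [h2]; group

/-- **`Z₀ = V₀ ⟨a⟩`** -/
theorem mem_Z0 {z : G} : z ∈ zc (TS S M) ⊓ centralizer (PP S M : Set G) ↔ ∃ v ∈ V₀, z = v ∨ z = v * M.e aa := by
  constructor
  · rintro ⟨h1, h2⟩
    exact of_zcT c h1 fun g hg => mem_centralizer_iff.1 h2 g ((le_sup_right : XX (LV M) (R M) ≤ PP S M) hg)
  · rintro ⟨v, hv, rfl | rfl⟩
    · exact V0_Z0 c hv
    · exact va_Z0 c hv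

theorem hr : ∀ x, x ∈ R M 0 ↔ x = 1 ∨ x = M.e nn := fun _ => mem_R M

theorem a_ne_v {v : G} (hv : v ∈ V₀) : v ≠ M.e aa := by
  rintro rfl
  exact c.not_zcS_a (one_mem V₀) (by rw [one_mul]; exact c.V0_zcS hv)

/-- two elements of `Z₀` -/
theorem exists_two : ∃ x ∈ zc (TS S M) ⊓ centralizer (PP S M : Set G),
    ∃ y ∈ zc (TS S M) ⊓ centralizer (PP S M : Set G), x ≠ 1 ∧ y ≠ 1 ∧ x ≠ y := by
  obtain ⟨v, hv, hv1⟩ : ∃ v ∈ V₀, v ≠ 1 := by
    by_contra h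
    push Not at h
    exact c.ne ((eq_bot_iff_forall _).2 h)
  exact ⟨v, V0_Z0 c hv, M.e aa, a_Z0 c, hv1, a_ne M, a_ne_v c hv⟩

/-! ### `T` has odd index -/

theorem odd_le {H : Subgroup G} {v : G} (hv : v ∈ V₀) (hT : TS S M ≤ H)
    (hH : H ≤ centralizer ({v * M.e aa} : Set G)) : ¬ 2 ∣ (TS S M).relIndex H := by
  intro h
  refine c.odd_cen (mul_mem (c.V0_zcT hv) c.a_zcT) (c.not_zcS_a hv) (h.trans ?_)
  exact ⟨_, (relIndex_mul_relIndex _ _ _ hT hH).symm⟩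

theorem T_le_MZ : TS S M ≤ JunAB.MZ (TS S M) (LV M) (R M) := by
  refine le_trans ?_ le_sup_left
  intro t ht
  exact mem_centralizer_iff.2 fun z hz => ((mem_zc.1 hz).2.1 t ht).symm

theorem odd_MZ : ¬ 2 ∣ (TS S M).relIndex (JunAB.MZ (TS S M) (LV M) (R M)) := by
  refine odd_le c (one_mem V₀) (T_le_MZ c) ?_
  have h1 := a_Z0 c
  rw [one_mul]
  exact JunAB.MZ_le (htt c) h1

theorem odd_MP {v : G} (hv : v ∈ V₀) :
    ¬ 2 ∣ (TS S M).relIndex (HTwo.AlphaP.MP (LV M) (R M) 0 (v * M.e aa)) := by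
  have h1 := va_Z0 c hv
  refine odd_le c hv ?_ ?_
  · refine le_trans ?_ le_sup_left
    refine le_inf (htt c).S_R ?_
    intro t ht
    exact mem_C.2 ((mem_zc.1 h1.1).2.1 t ht)
  · exact sup_le inf_le_right ((htt c).X_le_cen h1)

/-- `A` commutes with `⟨n^{C(v a n)}⟩` -/
theorem hyV {v : G} (hv : v ∈ V₀) : ∀ g : G, g * (v * M.e aa * M.e nn) = v * M.e aa * M.e nn * g →
    ∀ w ∈ LV M, w * (g * M.e nn * g⁻¹) = g * M.e nn * g⁻¹ * w := by
  intro g hg w hw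
  have h3 : v * M.e aa * M.e nn = v * M.e ss := by rw [mul_assoc, M.e_comm aa nn, na]
  rw [h3] at hg
  exact c.comm_s hv hg (LV_le M hw) (M.e_mem _)

/-! ### LEMMA E -/

omit [Finite G] c in
/-- `⟨r^{C(e)}⟩` is abelian -/
def AG (r e : G) : Prop := ∀ g : G, g * e = e * g → r * (g * r * g⁻¹) = g * r * g⁻¹ * r

omit [Finite G] c in
theorem AG.comm {r e : G} (h : AG r e) {g g' : G} (hg : g * e = e * g) (hg' : g' * e = e * g') :
    g * r * g⁻¹ * (g' * r * g'⁻¹) = g' * r * g'⁻¹ * (g * r * g⁻¹) := by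
  have h1 : g⁻¹ * g' * e = e * (g⁻¹ * g') := by
    have : g⁻¹ * e = e * g⁻¹ := by rw [inv_mul_eq_iff_eq_mul, ← mul_assoc, hg, mul_inv_cancel_right]
    rw [mul_assoc, hg', ← mul_assoc, this, mul_assoc]
  have h2 := h _ h1
  calc g * r * g⁻¹ * (g' * r * g'⁻¹) = g * (r * (g⁻¹ * g' * r * (g⁻¹ * g')⁻¹)) * g⁻¹ := by group
    _ = g * (g⁻¹ * g' * r * (g⁻¹ * g')⁻¹ * r) * g⁻¹ := by rw [h2]
    _ = g' * r * g'⁻¹ * (g * r * g⁻¹) := by group

omit [Finite G] c in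
/-- `V^k` consists of conjugates of `r` under `C(e)`, if `e` centralises `X^k` -/
theorem cj_conj {ι : Type*} {V : Subgroup G} {R : ι → Subgroup G} (b : BT V R) {i : ι} {r : G}
    (hr : ∀ x ∈ R i, x = 1 ∨ x = r) {e k : G} (hk : k * r = r * k)
    (h : e ∈ centralizer (BTwo.cj k (XX V R) : Set G)) {w : G} (hw : w ∈ BTwo.cj k V) :
    w = 1 ∨ ∃ m, m * e = e * m ∧ w = m * r * m⁻¹ := by
  obtain ⟨v, hv, rfl⟩ := hw
  change k * v * k⁻¹ = 1 ∨ ∃ m, m * e = e * m ∧ k * v * k⁻¹ = m * r * m⁻¹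
  obtain ⟨j, hj⟩ := b.R_cov v hv
  obtain ⟨x, hx, e1⟩ := b.trans_X_one i j
  rw [← e1, BTwo.mem_cj] at hj
  rcases hr _ hj with h0 | h0
  · left
    have h1 : v = 1 := by
      have := congrArg (fun y => x * y * x⁻¹) h0
      simp only [mul_one, mul_inv_cancel] at this
      rw [← this]; group
    rw [h1, mul_one, mul_inv_cancel]
  · right
    have h1 : v = x * r * x⁻¹ := by rw [← h0]; group
    refine ⟨k * x * k⁻¹, mem_centralizer_iff.1 h _ (BTwo.conj_mem_cj hx), ?_⟩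
    calc k * v * k⁻¹ = (k * x * k⁻¹) * (k * r * k⁻¹) * (k * x * k⁻¹)⁻¹ := by rw [h1]; group
      _ = (k * x * k⁻¹) * r * (k * x * k⁻¹)⁻¹ := by rw [hk]; group

omit c in
/-- **LEMMA E over `T`**, `⟨r^{C(e)}⟩` abelian -/
theorem le_T {ι : Type*} {V : Subgroup G} {R : ι → Subgroup G} (b : BTS V R) {i : ι} {r : G}
    (hr : ∀ x ∈ R i, x = 1 ∨ x = r) (hri : r ∈ R i)
    {T : Subgroup G} (hT : IsPGroup 2 T) (hTV : T ≤ normalizer (V : Set G))
    (hTR : T ≤ normalizer (R i : Set G)) (hodd : ¬ 2 ∣ T.relIndex (normalizer (R i : Set G)))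
    (hnc : ∃ k ∈ normalizer (R i : Set G), ∃ v ∈ V, ∃ w ∈ BTwo.cj k V, v * w ≠ w * v)
    (hdec : ∀ e ∈ T, e ≠ 1 → e * e = 1 → (∀ t ∈ T, e * t = t * e) → e ∈ CenX V R →
      AG r e ∧ AG r (r * e)) (j : ι) :
    LE V R j := by
  refine le_all b.toBT (i := i) (fun Λ hΛ hN => ?_) j
  by_contra hΛR
  set K := normalizer (R i : Set G) with hK
  have hr1 : r ≠ 1 := by
    rintro rfl
    refine b.R_ne i ((eq_bot_iff_forall _).2 fun x hx => ?_)
    rcases hr x hx with h | h <;> exact h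
  have hKr : ∀ k ∈ K, k * r = r * k := by
    intro k hk
    have h1 := BTwo.conj_mem_of_normalizer hk hri
    rcases hr _ h1 with h | h
    · exfalso
      apply hr1
      have := congrArg (fun y => k⁻¹ * y * k) h
      simp only [mul_one, inv_mul_cancel] at this
      rw [← this]; group
    · rw [mul_inv_eq_iff_eq_mul] at h
      exact h
  -- `E = R i Λ`
  set E := R i ⊔ Λ with hE
  have hKE : K ≤ normalizer (E : Set G) := by
    intro k hk
    rw [← cj_eq_self_iff, hE, cj_sup, cj_eq_self_iff.2 hk, cj_eq_self_iff.2 (hN hk)]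
  have hEm : ∀ l ∈ E, ∃ a ∈ R i, a * l ∈ CenX V R := by
    intro l hl
    have h1 : E ≤ Cfsg.Agent.Omega.HTwo.Par.RC b.toBT i := by
      refine sup_le (fun a ha => ⟨a⁻¹, inv_mem ha, ?_⟩) hΛ
      rw [inv_mul_cancel]
      exact one_mem _
    exact h1 hl
  -- elements of `E` modulo `X^k`
  have hEk : ∀ k ∈ K, ∀ e ∈ E, e ∈ centralizer (BTwo.cj k (XX V R) : Set G) ∨
      r * e ∈ centralizer (BTwo.cj k (XX V R) : Set G) := by
    intro k hk e he
    have h1 : k⁻¹ * e * k ∈ E := BTwo.conj_inv_mem_of_normalizer (hKE hk) he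
    obtain ⟨a, ha, h2⟩ := hEm _ h1
    rw [centralizer_cj, BTwo.mem_cj, BTwo.mem_cj]
    rcases hr a ha with rfl | rfl
    · rw [one_mul] at h2
      exact Or.inl h2
    · right
      have h3 : k⁻¹ * (a * e) * k = a * (k⁻¹ * e * k) := by
        have h4 : k⁻¹ * a = a * k⁻¹ := by
          rw [inv_mul_eq_iff_eq_mul, ← mul_assoc, hKr k hk, mul_inv_cancel_right]
        calc k⁻¹ * (a * e) * k = (k⁻¹ * a) * e * k := by group
          _ = _ := by rw [h4]; group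
      rw [h3]; exact h2
  have hE0 : E ⊓ CenX V R ≠ ⊥ := by
    intro h
    apply hΛR
    intro x hx
    obtain ⟨a, ha, hm⟩ := hΛ x hx
    have h1 : a * x ∈ E ⊓ CenX V R :=
      ⟨mul_mem ((le_sup_left : R i ≤ E) ha) ((le_sup_right : Λ ≤ E) hx), hm⟩
    rw [h, mem_bot, mul_eq_one_iff_eq_inv] at h1
    have h2 : x = a⁻¹ := by rw [h1, inv_inv]
    rw [h2]; exact inv_mem ha
  have hTE : T ≤ normalizer ((E ⊓ CenX V R : Subgroup G) : Set G) := by
    intro s hs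
    have h1 := b.NV_le_NCenX (hTV hs)
    rw [← cj_eq_self_iff, cj_inf, cj_eq_self_iff.2 (hKE (hTR hs)), cj_eq_self_iff.2 h1]
  have hE2 : IsPGroup 2 (E ⊓ CenX V R : Subgroup G) := b.CenX_isPGroup.to_le inf_le_right
  have hEK : E ⊓ CenX V R ≤ K := by
    refine inf_le_right.trans ?_
    refine (b.CenX_le_cen.trans (centralizer_le (b.R_le i))).trans (centralizer_le_normalizer _)
  have hET := LemE.le_of_odd hT hTR hodd hE2 hEK hTE
  obtain ⟨e, he, he1, hee, heT⟩ := LemE.exists_inv hT hE0 hET hTE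
  obtain ⟨k0, hk0, v0, hv0, w0, hw0, hne⟩ := hnc
  obtain ⟨g1, g2⟩ := hdec e (hET he) he1 hee heT he.2
  have key : ∀ f : G, AG r f → ∀ k ∈ K, ∀ l ∈ K, f ∈ centralizer (BTwo.cj k (XX V R) : Set G) →
      f ∈ centralizer (BTwo.cj l (XX V R) : Set G) → ∀ a ∈ BTwo.cj k V, ∀ c ∈ BTwo.cj l V, a * c = c * a := by
    intro f hf k hk l hl h1 h2 a ha c hc
    rcases cj_conj b.toBT hr (hKr k hk) h1 ha with rfl | ⟨m, hm, rfl⟩
    · rw [mul_one, one_mul]
    rcases cj_conj b.toBT hr (hKr l hl) h2 hc with rfl | ⟨m', hm', rfl⟩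
    · rw [mul_one, one_mul]
    exact hf.comm hm hm'
  refine hne (LemE.commute_of_bipartite hTV hodd
    (fun L => ∀ k ∈ K, BTwo.cj k V = L → e ∈ centralizer (BTwo.cj k (XX V R) : Set G)) ?_ ?_ k0 hk0 v0 hv0 w0 hw0)
  · intro k hk l hl h1 h2 a ha c hc'
    exact key e g1 k hk l hl (h1 k hk rfl) (h2 l hl rfl) a ha c hc'
  · have key' : ∀ k ∈ K, ¬ (∀ k' ∈ K, BTwo.cj k' V = BTwo.cj k V → e ∈ centralizer (BTwo.cj k' (XX V R) : Set G)) →
        ∃ k' ∈ K, BTwo.cj k' V = BTwo.cj k V ∧ r * e ∈ centralizer (BTwo.cj k' (XX V R) : Set G) := by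
      intro k hk h
      push Not at h
      obtain ⟨k', hk', e1, hne⟩ := h
      exact ⟨k', hk', e1, (hEk k' hk' e he.1).resolve_left hne⟩
    intro k hk l hl h1 h2 a ha c hc'
    obtain ⟨k', hk', e1, h3⟩ := key' k hk h1
    obtain ⟨l', hl', e2, h4⟩ := key' l hl h2
    rw [← e1] at ha
    rw [← e2] at hc'
    exact key (r * e) g2 k' hk' l' hl' h3 h4 a ha c hc'

/-- `r ∈ Z(O₂(C(e)))` -/
theorem AG_of {r e : G} (h1 : r ∈ Q e) (h2 : ∀ q ∈ Q e, q * r = r * q) : AG r e := by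
  intro g hg
  have h3 : g * r * g⁻¹ ∈ Q e := (mem_normalizer_iff.1 (le_normalizer_o2 _ (mem_C.2 hg)) _).1 h1
  exact (h2 _ h3).symm

/-- **LEMMA E** -/
theorem hLE : ∀ i, LE (LV M) (R M) i := by
  have b := htt c
  have hV0n : ∀ v ∈ V₀, M.e nn * v = v * M.e nn := fun v hv => c.V0L _ (c.A_le_L hv (M.e_mem _)) v hv
  refine le_T b.toBTS (i := 0) (r := M.e nn) (fun x hx => (mem_R M).1 hx) (gen_mem M 0) c.T_p (T_norm c) b.S_R
    b.S_odd ?_ ?_
  · refine ⟨k, ?_, M.e (lv 1), lv_mem M 1, k * M.e (lv 1) * k⁻¹, BTwo.conj_mem_cj (lv_mem M 1), fun h => ?_⟩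
    · rw [normR]; exact mem_C.2 c.b.hn
    · have h1 := ((ind_k c.b (y := lv 1) (by decide)).commute_iff (lv 1)).1 h.symm
      revert h1; decide
  · intro e heT he1 hee heT' heX
    have hez : e ∈ zc (TS S M) := mem_zc.2 ⟨heT, fun t ht => (heT' t ht).symm, by rw [pow_two]; exact hee⟩
    obtain ⟨v, hv, h1⟩ := of_zcT c hez fun g hg => mem_centralizer_iff.1 heX g hg
    rcases h1 with rfl | rfl
    · obtain ⟨h1, h2⟩ := c.comm_V0 hv he1 (M.e_mem nn)
      obtain ⟨h3, h4⟩ := c.comm_n hv (x := nn) (by decide)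
      refine ⟨AG_of c h1 h2, ?_⟩
      rw [hV0n _ hv]
      exact AG_of c h3 h4
    · obtain ⟨h1, h2⟩ := c.comm_a hv (x := nn) (by decide)
      refine ⟨AG_of c h1 h2, ?_⟩
      have h3 : M.e nn * (v * M.e aa) = v * M.e ss := by
        calc M.e nn * (v * M.e aa) = (M.e nn * v) * M.e aa := by group
          _ = v * (M.e nn * M.e aa) := by rw [hV0n _ hv]; group
          _ = v * M.e ss := by rw [na]
      rw [h3]
      exact fun g hg => c.comm_s hv hg (M.e_mem _) (M.e_mem _)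

end Cfsg.Agent.Omega.F4Leaf.OT.Inst
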