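import Cfsg.Agent.Omega.F4Leaf.OT.EPlus
import Cfsg.Agent.Omega.BTwo.Basic

/-!
# LeafF4 (O1), #18759 (4): the line `{1, e_{01}, e_{04}, e_{14}}` of `A`

* `LV M` with the points `R M i`, `i : Fin 3` (`R M 0 = ⟨n⟩`);
* `bt` : the situation `b = 2`.
-/

set_option autoImplicit false
set_option linter.unusedSectionVars false

namespace Cfsg.Agent.Omega.F4Leaf.OT.Line

open Subgroup Cfsg Cfsg.Agent.ZN
open Cfsg.Agent.Omega.BTwo hiding cj_O2
open Cfsg.Agent.Omega.S5.Mod Cfsg.Agent.Omega.S5.TT Cfsg.Agent.Omega.TTn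
open Cfsg.Agent.Omega.F4Leaf.OT.Tone
open Cfsg.Agent.Omega.S5.TT.Pos (na ns as sn n_ne s_ne a_ne n_ne_a n_ne_s a_ne_s e_sq' mem_C)
open Cfsg.Agent.MinSimple.VModule (o2_isPGroup le_o2 o2_le le_normalizer_o2 o2_le_of_sylow mem_zc zc_le zc_comm zc_sq)

universe u

/-! ### the points -/

/-- `{0 1}, {0 4}, {1 4}` -/
def lv : Fin 3 → Vec := ![nn, ![1, 0, 0, 0, 1], ![0, 1, 0, 0, 1]]

/-- `(0 1) ↦` the three pairs -/
def sg : Fin 3 → Equiv.Perm (Fin 5) := ![1, Equiv.swap 1 4, Equiv.swap 0 4]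

theorem sg_lv : ∀ i : Fin 3, nn ∘ (sg i).symm = lv i := by decide

theorem sg_perm : ∀ i j : Fin 3, ∃ k, lv j ∘ (sg i).symm = lv k := by decide

theorem sg_perm' : ∀ i j : Fin 3, ∃ k, lv j ∘ ((sg i)⁻¹).symm = lv k := by decide

theorem sg_aa : ∀ i : Fin 3, aa ∘ (sg i).symm = aa := by decide

theorem lv_ne : ∀ i : Fin 3, ¬ (lv i = 0 ∨ lv i = 1) := by decide

theorem lv_ne_lv : ∀ i j : Fin 3, i ≠ j → ¬ (lv i = lv j ∨ lv i = lv j + 1) := by decide

theorem lv_add : ∀ i j : Fin 3, i ≠ j → ∃ k, k ≠ i ∧ k ≠ j ∧ lv i + lv j = lv k := by decide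

theorem third3 : ∀ i j : Fin 3, ∃ k, k ≠ i ∧ k ≠ j := by decide

theorem ttp_lv : ∀ p : Equiv.Perm (Fin 5), TTp p → ∀ i : Fin 3, ∃ j, lv i ∘ p.symm = lv j := by
  intro p hp
  rcases hp with rfl | rfl | rfl | rfl <;> decide

theorem swap_lv : ∀ j k : Fin 3, j ≠ 0 → k ≠ 0 → j ≠ k → lv j ∘ (Equiv.swap 0 1 : Equiv.Perm (Fin 5)).symm = lv k := by
  decide

variable {G : Type u} [Group G]

section defs

variable {A L : Subgroup G} (M : FiveMod A L)

/-- the points -/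
def R (i : Fin 3) : Subgroup G := zpowers (M.e (lv i))

/-- the line -/
def LV : Subgroup G where
  carrier := {g | g = 1 ∨ ∃ i, g = M.e (lv i)}
  one_mem' := Or.inl rfl
  mul_mem' := by
    rintro x y (rfl | ⟨i, rfl⟩) (rfl | ⟨j, rfl⟩)
    · left; rw [mul_one]
    · right; exact ⟨j, by rw [one_mul]⟩
    · right; exact ⟨i, by rw [mul_one]⟩
    · by_cases h : i = j
      · left; rw [h, M.e_sq]
      · right
        obtain ⟨k, -, -, hk⟩ := lv_add i j h
        exact ⟨k, by rw [← M.e_add, hk]⟩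
  inv_mem' := by
    rintro x (rfl | ⟨i, rfl⟩)
    · left; rw [inv_one]
    · right; exact ⟨i, by rw [M.e_inv]⟩

theorem mem_LV {g : G} : g ∈ LV M ↔ g = 1 ∨ ∃ i, g = M.e (lv i) := Iff.rfl

theorem lv_mem (i : Fin 3) : M.e (lv i) ∈ LV M := Or.inr ⟨i, rfl⟩

theorem e_lv_ne (i : Fin 3) : M.e (lv i) ≠ 1 := fun h => lv_ne i ((M.ker _).1 h)

theorem e_lv_inj {i j : Fin 3} (h : M.e (lv i) = M.e (lv j)) : i = j := by
  by_contra hne
  exact lv_ne_lv i j hne (M.e_eq_iff.1 h)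

theorem mem_R {i : Fin 3} {g : G} : g ∈ R M i ↔ g = 1 ∨ g = M.e (lv i) := by
  constructor
  · intro h
    obtain ⟨k, rfl⟩ := mem_zpowers_iff.1 h
    rcases Int.even_or_odd' k with ⟨m, rfl | rfl⟩
    · left
      rw [zpow_mul, zpow_two, M.e_sq, one_zpow]
    · right
      rw [zpow_add, zpow_mul, zpow_two, M.e_sq, one_zpow, one_mul, zpow_one]
  · rintro (rfl | rfl)
    · exact one_mem _
    · exact mem_zpowers _

theorem gen_mem (i : Fin 3) : M.e (lv i) ∈ R M i := mem_zpowers _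

theorem R_le (i : Fin 3) : R M i ≤ LV M := by
  intro g hg
  rcases (mem_R M).1 hg with rfl | rfl
  · exact one_mem _
  · exact lv_mem M i

theorem LV_le : LV M ≤ A := by
  rintro g (rfl | ⟨i, rfl⟩)
  · exact one_mem _
  · exact M.e_mem _

theorem card_R (i : Fin 3) : Nat.card (R M i) = 2 := by
  rw [R, Nat.card_zpowers]
  refine orderOf_eq_prime ?_ (e_lv_ne M i)
  rw [pow_two]; exact M.e_sq _

theorem normR (i : Fin 3) : normalizer (R M i : Set G) = centralizer ({M.e (lv i)} : Set G) :=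
  MinSimple.Basic.normalizer_zpowers_eq (by rw [pow_two]; exact M.e_sq _)

theorem QQ_zero : QQ (R M 0) = Q (M.e nn) := by
  unfold QQ
  rw [normR]
  rfl

/-- `g` with `Ind g p`, `p` moving the pairs -/
theorem cj_R {g : G} {i j : Fin 3} (h : g * M.e (lv i) * g⁻¹ = M.e (lv j)) : BTwo.cj g (R M i) = R M j := by
  rw [R, R, ← h]
  unfold BTwo.cj
  rw [MonoidHom.map_zpowers]
  rfl

theorem norm_of {g : G} (h : ∀ i, ∃ j, g * M.e (lv i) * g⁻¹ = M.e (lv j)) [Finite G] :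
    g ∈ normalizer (LV M : Set G) := by
  refine BTwo.mem_normalizer_of_conj ?_
  rintro x (rfl | ⟨i, rfl⟩)
  · left; rw [mul_one, mul_inv_cancel]
  · right; exact h i

theorem exists_sg (i : Fin 3) : ∃ l ∈ L, M.Ind l (sg i) := M.exists_lift (sg i)

end defs

variable [Finite G] {S : Sylow 2 G} {A L : Subgroup G} {M : FiveMod A L} {k : G} {V₀ : Subgroup G}

/-! ### `BT` at the point `n` -/

section base

variable (b : Z.Base S M M k)
include b

/-- the elements of `Q n` -/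
theorem Q_comm {q v : G} (hq : q ∈ Q (M.e nn)) (hv : v ∈ A) : q * v * q⁻¹ * v⁻¹ ∈ R M 0 := by
  obtain ⟨p, hp, hi⟩ := b.Q_ind₁ hq
  have e1 : q * v * q⁻¹ * v⁻¹ = (v * q * v⁻¹ * q⁻¹)⁻¹ := by group
  rw [e1]
  refine inv_mem ?_
  rw [mem_R]
  exact Z.Base.comm_of_ind hp hi hv

/-- an element of `U_n` centralises `A` -/
theorem UU_cen {u : G} (hu : u ∈ UU (M.e nn) (M.e aa)) : u ∈ centralizer (A : Set G) := by
  rw [mem_centralizer_iff]
  intro v hv
  exact (b.UU_comm_Q hu (b.V₁_le_Q hv)).symm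

/-- `k e_{04} k⁻¹` acts like `(0 1)` -/
theorem ind_k {y : Vec} (hy : y 0 ≠ y 1) : M.Ind (k * M.e y * k⁻¹) (Equiv.swap 0 1) := by
  obtain ⟨w, hw, hi⟩ := b.ex
  rw [ChoiceBase.mem_cj] at hw
  obtain ⟨x, hx⟩ := (M.mem_iff _).1 hw
  have hw' : w = k * M.e x * k⁻¹ := by rw [hx]; group
  have hUc : ∀ z : Vec, z 0 = z 1 → k * M.e z * k⁻¹ ∈ centralizer (A : Set G) := fun z hz =>
    UU_cen b (UU_norm b.hn (b.perp_mem₁ hz))
  have hxx : x 0 ≠ x 1 := by
    intro h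
    have h1 := hUc x h
    rw [← hw'] at h1
    have h2 := hi.unique (FiveMod.ind_one_iff.2 h1)
    revert h2; decide
  have hs : (x + y) 0 = (x + y) 1 := by
    have h2 : ∀ p q r s : ZMod 2, p ≠ q → r ≠ s → p + r = q + s := by decide
    exact h2 _ _ _ _ hxx hy
  have h1 : M.Ind (k * M.e (x + y) * k⁻¹) 1 := FiveMod.ind_one_iff.2 (hUc _ hs)
  have h2 := hi.mul h1
  rw [mul_one] at h2
  have h3 : w * (k * M.e (x + y) * k⁻¹) = k * M.e y * k⁻¹ := by
    rw [hw', M.e_add]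
    calc k * M.e x * k⁻¹ * (k * (M.e x * M.e y) * k⁻¹) = k * ((M.e x * M.e x) * M.e y) * k⁻¹ := by group
      _ = _ := by rw [M.e_sq, one_mul]
  rwa [h3] at h2

/-- the shear at the point `n` -/
theorem mt_half {i j : Fin 3} (hi : i ≠ 0) (hj : j ≠ 0) :
    ∃ v ∈ LV M, BTwo.cj (k * v * k⁻¹) (R M i) = R M j := by
  by_cases hij : i = j
  · refine ⟨1, one_mem _, ?_⟩
    rw [mul_one, mul_inv_cancel, cj_one, hij]
  · refine ⟨M.e (lv 1), lv_mem M 1, cj_R M ?_⟩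
    rw [ind_k b (y := lv 1) (by decide) (lv i), swap_lv i j hi hj hij]

end base

/-! ### the other points -/

/-- an element of `L` moving `n` to the point `i` -/
theorem mov {l : G} {i : Fin 3} (hl : M.Ind l (sg i)) : l * M.e nn * l⁻¹ = M.e (lv i) := by
  rw [hl, sg_lv]

theorem mov_R {l : G} {i : Fin 3} (hl : M.Ind l (sg i)) : BTwo.cj l (R M 0) = R M i := by
  refine cj_R M ?_
  exact mov hl

theorem mov_norm {l : G} {i : Fin 3} (hl : M.Ind l (sg i)) : l ∈ normalizer (LV M : Set G) := by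
  refine norm_of M fun j => ?_
  obtain ⟨k, hk⟩ := sg_perm i j
  exact ⟨k, by rw [hl, hk]⟩

theorem mov_aa {l : G} {i : Fin 3} (hl : M.Ind l (sg i)) : l * M.e aa = M.e aa * l :=
  (hl.commute_iff _).2 (Or.inl (sg_aa i))

/-- `Q i` -/
theorem mov_QQ {l : G} {i : Fin 3} (hl : M.Ind l (sg i)) : BTwo.cj l (QQ (R M 0)) = QQ (R M i) := by
  rw [BTwo.cj_O2, ← normalizer_cj, mov_R hl]

theorem bt (b : Z.Base S M M k) : BT (LV M) (R M) where
  V_comm := fun a ha c hc => M.comm (LV_le M ha) (LV_le M hc)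
  V_sq := fun a ha => M.sq (LV_le M ha)
  R_le := R_le M
  R_inf := by
    intro i j hij
    rw [eq_bot_iff_forall]
    rintro x ⟨h1, h2⟩
    rcases (mem_R M).1 h1 with h | h
    · exact h
    rcases (mem_R M).1 h2 with h' | h'
    · exact h'
    · exact absurd (e_lv_inj M (h.symm.trans h')) hij
  R_sup := by
    intro i j hij
    refine le_antisymm (sup_le (R_le M i) (R_le M j)) ?_
    obtain ⟨k, hki, hkj, hk⟩ := lv_add i j hij
    have hi : M.e (lv i) ∈ R M i ⊔ R M j := mem_sup_left (gen_mem M i)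
    have hj : M.e (lv j) ∈ R M i ⊔ R M j := mem_sup_right (gen_mem M j)
    have hkk : M.e (lv k) ∈ R M i ⊔ R M j := by rw [← hk, M.e_add]; exact mul_mem hi hj
    rintro x (rfl | ⟨l, rfl⟩)
    · exact one_mem _
    · by_cases h1 : l = i
      · rw [h1]; exact hi
      by_cases h2 : l = j
      · rw [h2]; exact hj
      have h3 : l = k := by
        have : ∀ i j k l : Fin 3, i ≠ j → k ≠ i → k ≠ j → l ≠ i → l ≠ j → l = k := by decide
        exact this i j k l hij hki hkj h1 h2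
      rw [h3]; exact hkk
  R_cov := by
    rintro v (rfl | ⟨i, rfl⟩)
    · exact ⟨0, one_mem _⟩
    · exact ⟨i, gen_mem M i⟩
  R_ne := fun i h => e_lv_ne M i ((eq_bot_iff_forall _).1 h _ (gen_mem M i))
  third := third3
  perm := by
    intro g hg i
    rcases BTwo.conj_mem_of_normalizer hg (lv_mem M i) with h | ⟨j, h⟩
    · exfalso
      apply e_lv_ne M i
      have : M.e (lv i) = g⁻¹ * (g * M.e (lv i) * g⁻¹) * g := by group
      rw [this, h]; group
    · exact ⟨j, cj_R M h⟩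
  V_Q := by
    intro i
    obtain ⟨l, -, hl⟩ := exists_sg M i
    rw [← mov_QQ hl, ← cj_eq_self_iff.2 (mov_norm hl)]
    refine cj_mono ?_
    rw [QQ_zero]
    exact (LV_le M).trans b.V₁_le_Q
  QV := by
    intro i g hg v hv
    obtain ⟨l, -, hl⟩ := exists_sg M i
    rw [← mov_QQ hl, BTwo.mem_cj, QQ_zero] at hg
    have h1 := BTwo.conj_inv_mem_of_normalizer (mov_norm hl) hv
    have h2 := Q_comm b hg (LV_le M h1)
    have h3 := BTwo.conj_mem_cj (g := l) h2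
    rw [mov_R hl] at h3
    have e1 : l * (l⁻¹ * g * l * (l⁻¹ * v * l) * (l⁻¹ * g * l)⁻¹ * (l⁻¹ * v * l)⁻¹) * l⁻¹ = g * v * g⁻¹ * v⁻¹ := by
      group
    rwa [e1] at h3
  QR := by
    intro i g hg a ha
    have h1 := BTwo.O2_le _ hg
    rw [normR, mem_centralizer_singleton_iff] at h1
    rcases (mem_R M).1 ha with rfl | rfl
    · rw [mul_one, one_mul]
    · exact h1
  mt := by
    intro i
    obtain ⟨l, -, hl⟩ := exists_sg M i
    have hlN := mov_norm hl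
    have e0 : BTwo.cj l⁻¹ (R M i) = R M 0 := by rw [← mov_R hl, cj_inv_cj]
    -- the points `l⁻¹ (R j)`
    have hpt : ∀ j, j ≠ i → ∃ j', j' ≠ 0 ∧ BTwo.cj l (R M j') = R M j := by
      intro j hj
      obtain ⟨j', hj'⟩ := sg_perm' i j
      have h1 : BTwo.cj l⁻¹ (R M j) = R M j' := cj_R M (by rw [hl.inv, hj'])
      have h2 : BTwo.cj l (R M j') = R M j := by rw [← h1, cj_cj_inv]
      refine ⟨j', ?_, h2⟩
      rintro rfl
      apply hj
      rw [mov_R hl] at h2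
      by_contra hne
      have h3 : M.e (lv i) ∈ R M j := by rw [← h2]; exact gen_mem M i
      rcases (mem_R M).1 h3 with h4 | h4
      · exact e_lv_ne M i h4
      · exact hne (e_lv_inj M h4).symm
    have hhalf : ∀ {k : G}, Z.Base S M M k → ∀ j j' : Fin 3, j ≠ i → j' ≠ i →
        ∃ v ∈ LV M, BTwo.cj (l * k * l⁻¹ * v * (l * k * l⁻¹)⁻¹) (R M j) = R M j' := by
      intro k b j j' hj hj'
      obtain ⟨m, hm, em⟩ := hpt j hj
      obtain ⟨m', hm', em'⟩ := hpt j' hj'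
      obtain ⟨v, hv, ev⟩ := mt_half b hm hm'
      refine ⟨l * v * l⁻¹, BTwo.conj_mem_of_normalizer hlN hv, ?_⟩
      have e1 : l * k * l⁻¹ * (l * v * l⁻¹) * (l * k * l⁻¹)⁻¹ = l * (k * v * k⁻¹) * l⁻¹ := by group
      rw [e1, BTwo.cj_mul, BTwo.cj_mul, ← em, cj_inv_cj, ev, em']
    refine ⟨l * k * l⁻¹, ?_, fun j j' hj hj' => ⟨hhalf b j j' hj hj', ?_⟩⟩
    · rw [← mov_R hl, normalizer_cj, BTwo.mem_cj, normR, mem_centralizer_singleton_iff]
      have e1 : l⁻¹ * (l * k * l⁻¹) * l = k := by group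
      rw [e1]
      exact b.hn
    · obtain ⟨v, hv, e⟩ := hhalf b.symm j j' hj hj'
      refine ⟨v, hv, ?_⟩
      have e1 : (l * k * l⁻¹)⁻¹ * v * (l * k * l⁻¹) = l * k⁻¹ * l⁻¹ * v * (l * k⁻¹ * l⁻¹)⁻¹ := by group
      rw [e1]; exact e

end Cfsg.Agent.Omega.F4Leaf.OT.Line
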