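import Cfsg.Agent.Omega.TTn.Z.Nc
import Cfsg.Agent.Omega.TTn.Z.Align
import Cfsg.Agent.Omega.HT.Basic

/-!
# LeafF4, `m = 2`, `n` not 2-central (O1), #18759 (1): `T` is a Sylow 2-subgroup of `C_G(e)` for `e ∈ Ω₁(Z(T)) - Ω₁(Z(S))`

* `Cfg` : the configuration (`Z.Base S M M k`, `Ω₁(Z(T)) = V₀ {1, n, a, s}`);
* `Cfg.le_norm` : a 2-group `R ≥ T` normalises `T`;
* `Cfg.act_eq` : `g ∈ R - T` acts on `Ω₁(Z(T))` like `x`;
* `Cfg.odd_cen` : (T1).
-/

set_option autoImplicit false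
set_option linter.unusedSectionVars false

namespace Cfsg.Agent.Omega.F4Leaf.OT.Tone

open Subgroup Cfsg Cfsg.Agent.ZN
open Cfsg.Agent.ZN.ChoiceBase hiding mem_zc
open Cfsg.Agent.Omega.S5.Mod Cfsg.Agent.Omega.S5.TT Cfsg.Agent.Omega.TTn
open Cfsg.Agent.Omega.TTn.Z (Dih Base same_action nc_conj)
open Cfsg.Agent.Omega.TTn.Z.Fus (mem_of_two)
open Cfsg.Agent.Omega.S5.TT.Pos (na ns as sn n_ne s_ne a_ne n_ne_a n_ne_s a_ne_s e_sq' mem_C)
open Cfsg.Agent.MinSimple.VModule (o2_isPGroup le_o2 o2_le le_normalizer_o2 o2_le_of_sylow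
  normalizer_le_normalizer_zc le_centralizer_zc mem_zc zc_le zc_comm zc_sq)

universe u

variable {G : Type u} [Group G]

/-- `T = C_S(n)` -/
abbrev TS (S : Sylow 2 G) {A L : Subgroup G} (M : FiveMod A L) : Subgroup G :=
  (S : Subgroup G) ⊓ centralizer ({M.e nn} : Set G)

/-- The configuration of (O1). -/
structure Cfg (S : Sylow 2 G) {A L : Subgroup G} (M : FiveMod A L) (k : G) (V₀ : Subgroup G) : Prop where
  b : Z.Base S M M k
  V0L : ∀ g ∈ L, ∀ v ∈ V₀, g * v = v * g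
  V02 : ∀ v ∈ V₀, v * v = 1
  V0S : V₀ ≤ (S : Subgroup G)
  zT : ∀ d ∈ zc (TS S M), ∃ v ∈ V₀, d = v ∨ d = v * M.e nn ∨ d = v * M.e aa ∨ d = v * M.e ss
  ne : V₀ ≠ ⊥

namespace Cfg

variable {S : Sylow 2 G} {A L : Subgroup G} {M : FiveMod A L} {k : G} {V₀ : Subgroup G}
  (c : Cfg S M k V₀)
include c

theorem T_p : IsPGroup 2 (TS S M) := S.isPGroup'.to_le inf_le_left

theorem S_le : (S : Subgroup G) ≤ L := c.b.dih₁.S_le

theorem T_le_L : TS S M ≤ L := inf_le_left.trans c.S_le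

theorem V0_zcS {v : G} (hv : v ∈ V₀) : v ∈ zc (S : Subgroup G) :=
  mem_zc.2 ⟨c.V0S hv, fun g hg => c.V0L g (c.S_le hg) v hv, by rw [pow_two]; exact c.V02 v hv⟩

theorem s_zcS : M.e ss ∈ zc (S : Subgroup G) :=
  mem_zc.2 ⟨c.b.dih₁.V_le_S (M.e_mem _), fun _ hg => c.b.dih₁.S_comm hg, e_sq' M ss⟩

theorem V0_T : V₀ ≤ TS S M := by
  intro v hv
  exact ⟨c.V0S hv, mem_C.2 (c.V0L _ (c.S_le (c.b.dih₁.V_le_S (M.e_mem _))) v hv).symm⟩

theorem V0_zcT {v : G} (hv : v ∈ V₀) : v ∈ zc (TS S M) :=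
  mem_zc.2 ⟨c.V0_T hv, fun g hg => c.V0L g (c.T_le_L hg) v hv, by rw [pow_two]; exact c.V02 v hv⟩

theorem n_zcT : M.e nn ∈ zc (TS S M) := c.b.dih₁.n_mem_zT

theorem s_zcT : M.e ss ∈ zc (TS S M) := c.b.dih₁.s_mem_zT

theorem a_zcT : M.e aa ∈ zc (TS S M) := by
  rw [← ns M]; exact mul_mem c.n_zcT c.s_zcT

/-- the elements of `Ω₁(Z(S))` in `Ω₁(Z(T))` -/
theorem mem_zcS {d : G} (hd : d ∈ zc (TS S M)) {x : G} (hx : M.Ind x tt) (hxS : x ∈ (S : Subgroup G))
    (h : x * d * x⁻¹ = d) : d ∈ zc (S : Subgroup G) := by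
  refine mem_zc.2 ⟨(zc_le _ hd).1, fun g hg => ?_, (mem_zc.1 hd).2.2⟩
  rcases c.b.dih₁.mem_or hxS hx hg with h1 | h1
  · exact (mem_zc.1 hd).2.1 g h1
  · have h2 := (mem_zc.1 hd).2.1 _ h1
    rw [mul_inv_eq_iff_eq_mul] at h
    have h3 : g * d * x = d * g * x := by
      calc g * d * x = g * (d * x) := by group
        _ = g * (x * d) := by rw [h]
        _ = g * x * d := by group
        _ = d * (g * x) := h2
        _ = d * g * x := by group
    exact mul_right_cancel h3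

/-- `x` acts on `Ω₁(Z(T))` as a transvection with centre `s` -/
theorem act_x {d : G} (hd : d ∈ zc (TS S M)) {x : G} (hx : M.Ind x tt) (hxS : x ∈ (S : Subgroup G)) :
    x * d * x⁻¹ = d ∨ x * d * x⁻¹ = d * M.e ss := by
  obtain ⟨v, hv, h1⟩ := c.zT d hd
  have hxv : x * v * x⁻¹ = v := by rw [c.V0L x (c.S_le hxS) v hv, mul_inv_cancel_right]
  have hc : ∀ y, x * (v * y) * x⁻¹ = v * (x * y * x⁻¹) := by
    intro y
    calc x * (v * y) * x⁻¹ = (x * v * x⁻¹) * (x * y * x⁻¹) := by group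
      _ = _ := by rw [hxv]
  rcases h1 with rfl | rfl | rfl | rfl
  · left; exact hxv
  · right; rw [hc, Z.Dih.tt_n hx, mul_assoc, ns]
  · right; rw [hc, Z.Dih.tt_a hx, mul_assoc, as]
  · left; rw [hc, Z.Dih.tt_s hx]

variable [Finite G]

/-- a 2-group `R ≥ T` normalises `T` -/
theorem le_norm {R : Subgroup G} (hR : IsPGroup 2 R) (hTR : TS S M ≤ R) :
    R ≤ normalizer (TS S M : Set G) := by
  have hf : Fact (Nat.Prime 2) := ⟨Nat.prime_two⟩
  obtain ⟨R', hR'⟩ := hR.exists_le_sylow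
  have hcR : Nat.card (R' : Subgroup G) = Nat.card (S : Subgroup G) :=
    Nat.card_congr (Sylow.equiv R' S).toEquiv
  have h1 := c.b.card_S
  have h2 : Nat.card R ∣ 2 * Nat.card (TS S M) := by
    have h3 := card_dvd_of_le hR'
    rw [hcR, h1] at h3
    exact h3
  have h3 : Nat.card (TS S M) * (TS S M).relIndex R = Nat.card R := by
    rw [← relIndex_bot_left, ← relIndex_bot_left R]
    exact relIndex_mul_relIndex _ _ _ bot_le hTR
  have h4 : (TS S M).relIndex R ∣ 2 := by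
    rw [← h3, mul_comm 2] at h2
    exact Nat.dvd_of_mul_dvd_mul_left Nat.card_pos h2
  have hn : ((TS S M).subgroupOf R).Normal := by
    rcases (Nat.dvd_prime Nat.prime_two).1 h4 with h5 | h5
    · have h6 : (TS S M).subgroupOf R = ⊤ := subgroupOf_eq_top.2 (relIndex_eq_one.1 h5)
      rw [h6]; infer_instance
    · exact normal_of_index_eq_two h5
  exact (normal_subgroupOf_iff_le_normalizer hTR).1 hn

/-- an element of `R - T`, `R ≥ T` a 2-group, acts on `Ω₁(Z(T))` like `x` -/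
theorem act_eq {R : Subgroup G} (hR : IsPGroup 2 R) (hTR : TS S M ≤ R) {g : G} (hg : g ∈ R)
    (hgT : g ∉ TS S M) {x : G} (hx : M.Ind x tt) (hxS : x ∈ (S : Subgroup G)) :
    ∀ d ∈ zc (TS S M), x * d * x⁻¹ = g * d * g⁻¹ := by
  have b := c.b
  have hRX := c.le_norm hR hTR
  have hSX : (S : Subgroup G) ≤ normalizer (TS S M : Set G) := b.dih₁.S_le_normalizer_T
  have hgX := hRX hg
  have hg2 : ∃ j : ℕ, g ^ 2 ^ j = 1 := by
    obtain ⟨j, hj⟩ := hR ⟨g, hg⟩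
    exact ⟨j, congrArg Subtype.val hj⟩
  have hzc : ∀ b ∈ zc (TS S M), ∀ b' ∈ zc (TS S M), b * b' = b' * b := fun b hb b' hb' => zc_comm _ b hb b' hb'
  have hz2 : ∀ b ∈ zc (TS S M), b * b = 1 := fun b hb => by rw [← pow_two]; exact zc_sq _ b hb
  have hconj : ∀ g b c : G, g * (b * c) * g⁻¹ = g * b * g⁻¹ * (g * c * g⁻¹) := fun g b c => by group
  obtain ⟨y, hy, hyS⟩ := exists_conj_le_sylow S _ _ hSX hR hRX
  have hzX : ∀ {g : G}, g ∈ normalizer (TS S M : Set G) → ∀ {d : G}, d ∈ zc (TS S M) →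
      g * d * g⁻¹ ∈ zc (TS S M) := fun {g} hg {d} hd =>
    (mem_normalizer_iff.1 (normalizer_le_normalizer_zc _ hg) d).1 hd
  have hyi := inv_mem hy
  have hzX' : ∀ {d : G}, d ∈ zc (TS S M) → y⁻¹ * d * y ∈ zc (TS S M) := by
    intro d hd
    have := hzX hyi hd
    rwa [inv_inv] at this
  -- `y g y⁻¹ ∈ S - T`
  have h1 : y * g * y⁻¹ * x ∈ TS S M := by
    rcases b.dih₁.mem_or hxS hx (hyS g hg) with h | h
    · exact absurd ((mem_normalizer_iff.1 hy g).2 h) hgT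
    · exact h
  have hT : ∀ {t d : G}, t ∈ TS S M → d ∈ zc (TS S M) → t * d * t⁻¹ = d := by
    intro t d ht hd
    rw [(mem_zc.1 hd).2.1 t ht, mul_inv_cancel_right]
  obtain ⟨s', hs'⟩ : ∃ s', s' = y⁻¹ * M.e ss * y := ⟨_, rfl⟩
  have hs'B : s' ∈ zc (TS S M) := hs' ▸ hzX' c.s_zcT
  have hs'1 : s' ≠ 1 := by
    intro h
    apply s_ne M
    have h2 : M.e ss = y * s' * y⁻¹ := by rw [hs']; group
    rw [h2, h]; group
  have hxX := hSX hxS
  -- the action of `g`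
  have ag : ∀ d ∈ zc (TS S M), g * d * g⁻¹ = y⁻¹ * (x⁻¹ * (y * d * y⁻¹) * x) * y := by
    intro d hd
    have h2 : y * d * y⁻¹ ∈ zc (TS S M) := hzX hy hd
    have h3 : x⁻¹ * (y * d * y⁻¹) * x ∈ zc (TS S M) := by
      have := hzX (inv_mem hxX) h2
      rwa [inv_inv] at this
    have h4 := hT h1 h3
    calc g * d * g⁻¹ = y⁻¹ * ((y * g * y⁻¹ * x) * (x⁻¹ * (y * d * y⁻¹) * x) * (y * g * y⁻¹ * x)⁻¹) * y := by
          group
      _ = _ := by rw [h4]
  have axi : ∀ d ∈ zc (TS S M), x⁻¹ * d * x = d ∨ x⁻¹ * d * x = d * M.e ss := by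
    intro d hd
    rcases c.act_x hd hx hxS with h | h
    · left
      rw [mul_inv_eq_iff_eq_mul] at h
      rw [mul_assoc, ← h]; group
    · right
      have h5 : x⁻¹ * M.e ss * x = M.e ss := by
        have := Z.Dih.tt_s hx
        rw [mul_inv_eq_iff_eq_mul] at this
        rw [mul_assoc, ← this]; group
      have h6 : d = (x⁻¹ * d * x) * M.e ss := by
        calc d = x⁻¹ * (x * d * x⁻¹) * x := by group
          _ = x⁻¹ * (d * M.e ss) * x := by rw [h]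
          _ = (x⁻¹ * d * x) * (x⁻¹ * M.e ss * x) := by group
          _ = _ := by rw [h5]
      calc x⁻¹ * d * x = (x⁻¹ * d * x) * (M.e ss * M.e ss) := by rw [M.e_sq, mul_one]
        _ = (x⁻¹ * d * x) * M.e ss * M.e ss := by group
        _ = d * M.e ss := by rw [← h6]
  have ax' : ∀ d ∈ zc (TS S M), g * d * g⁻¹ = d ∨ g * d * g⁻¹ = d * s' := by
    intro d hd
    rw [ag d hd]
    rcases axi _ (hzX hy hd) with h | h
    · left; rw [h]; group
    · right; rw [h, hs']; group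
  have ys' : g * s' * g⁻¹ = s' := by
    rw [ag s' hs'B, hs']
    have h2 : y * (y⁻¹ * M.e ss * y) * y⁻¹ = M.e ss := by group
    rw [h2]
    have h5 : x⁻¹ * M.e ss * x = M.e ss := by
      have := Z.Dih.tt_s hx
      rw [mul_inv_eq_iff_eq_mul] at this
      rw [mul_assoc, ← this]; group
    rw [h5]
  have xn' : g * M.e nn * g⁻¹ = M.e nn * s' := by
    rcases ax' _ c.n_zcT with h | h
    · exfalso
      apply hgT
      rw [mul_inv_eq_iff_eq_mul] at h
      exact mem_of_two c.T_p inf_le_right b.not_dvd (mem_C.2 h) hgX hg2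
    · exact h
  have xn : x * M.e nn * x⁻¹ = M.e nn * M.e ss := by rw [Z.Dih.tt_n hx, ns]
  -- (i)
  have xs' : x * s' * x⁻¹ = s' := by
    rcases c.act_x hs'B hx hxS with h | h
    · exact h
    exfalso
    refine nc_conj b.nc g S ?_
    rw [xn']
    have h3 : x * (M.e nn * s') * x⁻¹ = M.e nn * s' := by
      rw [hconj, xn, h]
      calc M.e nn * M.e ss * (s' * M.e ss) = M.e nn * (M.e ss * s') * M.e ss := by group
        _ = M.e nn * (s' * M.e ss) * M.e ss := by rw [hzc _ c.s_zcT _ hs'B]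
        _ = M.e nn * s' * (M.e ss * M.e ss) := by group
        _ = M.e nn * s' := by rw [M.e_sq, mul_one]
    intro g' hg'
    exact mem_C.2 ((mem_zc.1 (c.mem_zcS (mul_mem c.n_zcT hs'B) hx hxS h3)).2.1 g' hg')
  -- (ii)
  have ys : g * M.e ss * g⁻¹ = M.e ss := by
    rcases ax' _ c.s_zcT with h | h
    · exact h
    exfalso
    apply hgT
    have h3 : g * M.e aa * g⁻¹ = M.e aa := by
      rw [← ns M, hconj, xn', h]
      calc M.e nn * s' * (M.e ss * s') = M.e nn * (s' * M.e ss) * s' := by group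
        _ = M.e nn * (M.e ss * s') * s' := by rw [hzc _ c.s_zcT _ hs'B]
        _ = M.e nn * M.e ss * (s' * s') := by group
        _ = M.e nn * M.e ss := by rw [hz2 _ hs'B, mul_one]
    rw [mul_inv_eq_iff_eq_mul] at h3
    have h4 : TS S M ≤ centralizer ({M.e aa} : Set G) := fun t ht => mem_C.2 (b.dih₁.T_comm_a ht)
    exact mem_of_two c.T_p h4 b.not_dvd_a (mem_C.2 h3) hgX hg2
  have hmem : ∀ g ∈ (S : Subgroup G), g ∈ TS S M ∨ g * x ∈ TS S M := fun g hg => b.dih₁.mem_or hxS hx hg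
  exact same_action (S := S) (H := normalizer (TS S M : Set G)) (B := zc (TS S M)) hSX
    (normalizer_le_normalizer_zc _) hzc hz2 (x := x) (x' := g) (n := M.e nn) (s := M.e ss) (s' := s')
    (fun g hg => (hmem g hg).imp (fun h4 => fun b hb => hT h4 hb) fun h4 => fun b hb => hT h4 hb)
    hxX hgX c.n_zcT c.s_zcT hs'B (s_ne M) hs'1 (fun d hd => c.act_x hd hx hxS) ax' xn xn'
    (Z.Dih.tt_s hx) xs' ys ys'

/-- **(T1)** -/
theorem odd_cen {e : G} (he : e ∈ zc (TS S M)) (heS : e ∉ zc (S : Subgroup G)) :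
    ¬ 2 ∣ (TS S M).relIndex (centralizer ({e} : Set G)) := by
  obtain ⟨x, hxS, hx⟩ := c.b.dih₁.exists_swap
  have hTe : TS S M ≤ centralizer ({e} : Set G) := fun t ht => mem_C.2 ((mem_zc.1 he).2.1 t ht)
  obtain ⟨R, h1, h2, h3, h4⟩ := HT.exists_syl c.T_p hTe
  by_cases h5 : R ≤ TS S M
  · rwa [le_antisymm h1 h5]
  exfalso
  obtain ⟨g, hg, hgT⟩ := SetLike.not_le_iff_exists.1 h5
  have h6 := c.act_eq h3 h1 hg hgT hx hxS e he
  have h7 : g * e * g⁻¹ = e := by rw [mem_C.1 (h2 hg), mul_inv_cancel_right]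
  exact heS (c.mem_zcS he hx hxS (h6.trans h7))

/-- the elements of `Ω₁(Z(T)) - Ω₁(Z(S))` -/
theorem not_zcS_n {v : G} (hv : v ∈ V₀) : v * M.e nn ∉ zc (S : Subgroup G) := by
  intro h
  obtain ⟨x, hxS, hx⟩ := c.b.dih₁.exists_swap
  have h1 : M.e nn ∈ zc (S : Subgroup G) := by
    have := mul_mem (inv_mem (c.V0_zcS hv)) h
    rwa [inv_mul_cancel_left] at this
  have h2 := (mem_zc.1 h1).2.1 x hxS
  have h3 := Z.Dih.tt_n hx
  rw [h2, mul_inv_cancel_right] at h3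
  exact n_ne_a M h3

theorem not_zcS_a {v : G} (hv : v ∈ V₀) : v * M.e aa ∉ zc (S : Subgroup G) := by
  intro h
  apply c.not_zcS_n hv
  have h1 := mul_mem h c.s_zcS
  rwa [mul_assoc, as] at h1

end Cfg

end Cfsg.Agent.Omega.F4Leaf.OT.Tone
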